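import Groth.Agent.L13.ModPair.Colon

/-! A modulus condition with minimal composite: the open locus where the second map is minimal. -/

set_option autoImplicit false

universe u

open CategoryTheory CategoryTheory.Limits AlgebraicGeometry TopologicalSpace Opposite

namespace Groth.L13.MP

open Groth.L22

variable {X Y Z : Scheme.{u}}

/-- locally principal ideal sheaves -/
def LocPrinc (D : X.IdealSheafData) : Prop :=
  ∀ x : X, ∃ U : X.affineOpens, x ∈ U.1 ∧ ∃ f : Γ(X, U.1), D.ideal U = Ideal.span {f}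

theorem LocPrinc.locFG {D : X.IdealSheafData} (hD : LocPrinc D) : LocFG D := fun x => by
  obtain ⟨U, hxU, f, hU⟩ := hD x
  exact ⟨U, hxU, hU ▸ Submodule.fg_span_singleton f⟩

theorem LocPrinc.comap {K : Y.IdealSheafData} (hK : BlowUp.IsEffCartierIdeal K) (f : X ⟶ Y) :
    LocPrinc (K.comap f) := fun x => by
  obtain ⟨W, hxW, c, -, -, hW⟩ := Ideals.exists_generator hK (f x)
  obtain ⟨U, V, e, hxV, -, hUW⟩ := Ideals.exists_affine_pair f x (W := ⊤) trivial (W' := W.1) hxW
  refine ⟨V, hxV, (f.appLE U.1 V.1 e).hom (Y.presheaf.map (homOfLE hUW).op c), ?_⟩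
  rw [Ideals.comap_ideal f K U V e, (hW U hUW).2, Ideal.map_span, Set.image_singleton]

theorem colon_mul_of_locPrinc {I D : X.IdealSheafData} (hD : LocPrinc D) (hle : I ≤ D) :
    colon I hD.locFG * D = I := by
  choose U hxU f hU using id hD
  refine Scheme.IdealSheafData.ext_of_iSup_eq_top U
    (eq_top_iff.2 fun x _ => Opens.mem_iSup.2 ⟨x, hxU x⟩) fun x => ?_
  rw [Scheme.IdealSheafData.ideal_mul, Pi.mul_apply]
  refine le_antisymm (Ideal.mul_le.2 fun a ha b hb => Submodule.mem_colon.1 ha b hb) fun a ha => ?_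
  obtain ⟨c, rfl⟩ := Ideal.mem_span_singleton'.1 (hU x ▸ hle (U x) ha)
  refine Ideal.mul_mem_mul ?_ ((hU x).symm ▸ Ideal.mem_span_singleton_self _)
  refine Submodule.mem_colon.2 fun d hd => ?_
  obtain ⟨e, rfl⟩ := Ideal.mem_span_singleton'.1 (hU x ▸ hd)
  rw [smul_eq_mul, show c * (e * f x) = e * (c * f x) by ring]
  exact Ideal.mul_mem_left _ _ ha

theorem top_mul' (I : X.IdealSheafData) : ⊤ * I = I := by
  ext U : 2
  rw [Scheme.IdealSheafData.ideal_mul, Pi.mul_apply, Scheme.IdealSheafData.ideal_top]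
  exact Ideal.top_mul _

theorem minimal_comp_split {I : X.IdealSheafData} {J : Y.IdealSheafData} {K : Z.IdealSheafData}
    (hI : BlowUp.IsEffCartierIdeal I) (hJ : BlowUp.IsEffCartierIdeal J)
    (hK : BlowUp.IsEffCartierIdeal K) (f : X ⟶ Y) (g : Y ⟶ Z)
    (hf : ModPair.IsAmbient I J f) (hg : ModPair.IsAmbient J K g)
    (hfg : ModPair.IsMinimal I K (f ≫ g)) :
    ModPair.IsMinimal I J f ∧
      ∃ U : Y.Opens, QuasiCompact U.ι ∧ Set.range f.base ⊆ (U : Set Y) ∧
        ModPair.IsMinimal (J.comap U.ι) K (U.ι ≫ g) := by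
  have hfg' : I = (K.comap g).comap f := by
    rw [← Scheme.IdealSheafData.comap_comp]; exact hfg
  have hmin : ModPair.IsMinimal I J f :=
    le_antisymm hf (le_of_le_of_eq ((Scheme.IdealSheafData.map_gc f).monotone_l hg) hfg'.symm)
  refine ⟨hmin, ?_⟩
  set K' := K.comap g with hK'
  have hP : LocPrinc K' := LocPrinc.comap hK g
  set Q := colon J hP.locFG with hQ
  have hJQ : Q * K' = J := colon_mul_of_locPrinc hP hg
  have hQc : BlowUp.IsEffCartierIdeal Q := Ideals.isEffCartier_left_of_mul (hJQ.symm ▸ hJ)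
  refine ⟨ModPair.interior Q, quasiCompact_interior hQc, ?_, ?_⟩
  · rintro _ ⟨x, rfl⟩
    have h1 : Q.comap f * I = ⊤ * I := by
      conv_lhs => rw [hfg', ← Ideals.comap_mul, hJQ, ← hmin]
      exact (top_mul' _).symm
    have h2 : Q.comap f = ⊤ := eq_of_mul_eq hI h1
    have h3 : x ∈ ModPair.interior (Q.comap f) := by rw [mem_interior, h2, Scheme.IdealSheafData.support_top]; exact id
    rwa [interior_comap] at h3
  · have h2 : Q.comap (ModPair.interior Q).ι = ⊤ := Ideals.comap_eq_top Q _ fun y => y.2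
    unfold ModPair.IsMinimal
    conv_lhs => rw [← hJQ, Ideals.comap_mul, h2]
    rw [Scheme.IdealSheafData.comap_comp]
    exact top_mul' _

end Groth.L13.MP
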