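import Groth.Agent.L13.ModPair.Basic
import Groth.Agent.L22.CartierDecomp
import Mathlib.RingTheory.Localization.Finiteness

/-! Locally finitely generated ideal sheaves, cancellation by and colon by effective Cartier ideals. -/

set_option autoImplicit false

universe u

open CategoryTheory CategoryTheory.Limits AlgebraicGeometry TopologicalSpace Opposite

namespace Groth.L13.MP

open Groth.L22

variable {X Y : Scheme.{u}}

/-- locally finitely generated ideal sheaves -/
def LocFG (I : X.IdealSheafData) : Prop := ∀ x : X, ∃ U : X.affineOpens, x ∈ U.1 ∧ (I.ideal U).FG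

theorem LocFG.fg {I : X.IdealSheafData} (hI : LocFG I) (U : X.affineOpens) : (I.ideal U).FG := by
  let s : Set Γ(X, U.1) := {g | ∃ V : X.affineOpens, X.basicOpen g ≤ V.1 ∧ (I.ideal V).FG}
  have hs : Ideal.span s = ⊤ := by
    rw [← U.2.self_le_iSup_basicOpen_iff]
    intro x hx
    obtain ⟨V, hxV, hV⟩ := hI x
    obtain ⟨g, hg, hxg⟩ := U.2.exists_basicOpen_le (V := V.1 ⊓ U.1) ⟨x, hxV, hx⟩ hx
    exact Opens.mem_iSup.2 ⟨⟨g, V, fun y hy => (hg hy).1, hV⟩, hxg⟩
  refine Ideal.fg_of_localizationSpan s hs fun g => ?_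
  obtain ⟨g, V, hgV, hV⟩ := g
  haveI := U.2.isLocalization_basicOpen g
  have h1 : (I.ideal (X.affineBasicOpen g)).FG := by
    rw [← Scheme.IdealSheafData.map_ideal I (U := X.affineBasicOpen g) (V := V) hgV]
    exact Ideal.FG.map hV _
  have h2 : I.ideal (X.affineBasicOpen g) =
      (I.ideal U).map (algebraMap Γ(X, U.1) Γ(X, X.basicOpen g)) :=
    (Scheme.IdealSheafData.map_ideal_basicOpen I U g).symm
  let e := IsLocalization.algEquiv (Submonoid.powers g) Γ(X, X.basicOpen g) (Localization.Away g)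
  have h3 : (I.ideal U).map (algebraMap Γ(X, U.1) (Localization.Away g)) =
      ((I.ideal U).map (algebraMap Γ(X, U.1) Γ(X, X.basicOpen g))).map e.toAlgHom.toRingHom := by
    rw [Ideal.map_map]
    congr 1
    exact (AlgHom.comp_algebraMap e.toAlgHom).symm
  rw [h3]
  exact Ideal.FG.map (h2 ▸ h1) _

theorem LocFG.of_fg {I : X.IdealSheafData} (h : ∀ U, (I.ideal U).FG) : LocFG I := fun x => by
  obtain ⟨_, ⟨W, hW, rfl⟩, hxW, -⟩ :=
    X.isBasis_affineOpens.exists_subset_of_mem_open (Set.mem_univ x) isOpen_univ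
  exact ⟨⟨W, hW⟩, hxW, h _⟩

theorem LocFG.of_isEffCartier {I : X.IdealSheafData} (hI : BlowUp.IsEffCartierIdeal I) : LocFG I := fun x => by
  obtain ⟨U, hxU, f, -, hU⟩ := hI x
  exact ⟨U, hxU, hU ▸ Submodule.fg_span_singleton f⟩

theorem LocFG.sup {I J : X.IdealSheafData} (hI : LocFG I) (hJ : LocFG J) : LocFG (I ⊔ J) :=
  .of_fg fun U => by
    rw [Scheme.IdealSheafData.ideal_sup, Pi.sup_apply]
    exact Submodule.FG.sup (hI.fg U) (hJ.fg U)

theorem LocFG.comap {I : Y.IdealSheafData} (hI : LocFG I) (f : X ⟶ Y) : LocFG (I.comap f) := fun x => by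
  obtain ⟨U, V, e, hxV, -, -⟩ := Ideals.exists_affine_pair f x (W := ⊤) trivial (W' := ⊤) trivial
  exact ⟨V, hxV, by rw [Ideals.comap_ideal f I U V e]; exact Ideal.FG.map (hI.fg U) _⟩

/-- effective Cartier ideals cancel -/
theorem le_of_mul_le {E I J : X.IdealSheafData} (hE : BlowUp.IsEffCartierIdeal E) (h : I * E ≤ J * E) : I ≤ J := by
  choose U hxU f hf hU hUV using fun x => Ideals.exists_generator hE x
  refine Scheme.IdealSheafData.le_of_iSup_eq_top U
    (eq_top_iff.2 fun x _ => Opens.mem_iSup.2 ⟨x, hxU x⟩) fun x a ha => ?_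
  have h1 : a * f x ∈ (J * E).ideal (U x) := h (U x) (by
    rw [Scheme.IdealSheafData.ideal_mul, Pi.mul_apply, hU x]
    exact Ideal.mul_mem_mul ha (Ideal.mem_span_singleton_self _))
  rw [Scheme.IdealSheafData.ideal_mul, Pi.mul_apply, hU x, Ideal.mem_mul_span_singleton] at h1
  obtain ⟨b, hb, hba⟩ := h1
  rwa [(mul_cancel_right_mem_nonZeroDivisors (hf x)).1 hba] at hb

theorem eq_of_mul_eq {E I J : X.IdealSheafData} (hE : BlowUp.IsEffCartierIdeal E) (h : I * E = J * E) : I = J :=
  le_antisymm (le_of_mul_le hE h.le) (le_of_mul_le hE h.ge)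

/-- the colon by a locally finitely generated ideal sheaf -/
noncomputable def colon (I : X.IdealSheafData) {D : X.IdealSheafData} (hD : LocFG D) : X.IdealSheafData where
  ideal U := Submodule.colon (I.ideal U) (D.ideal U : Set Γ(X, U.1))
  map_ideal_basicOpen U f := by
    haveI := U.2.isLocalization_basicOpen f
    rw [← I.map_ideal_basicOpen U f, ← D.map_ideal_basicOpen U f]
    exact CartierDecomp.map_colon (Submonoid.powers f) _ _ (hD.fg U)

theorem colon_mul {I D : X.IdealSheafData} (hD : BlowUp.IsEffCartierIdeal D) (hle : I ≤ D) :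
    colon I (LocFG.of_isEffCartier hD) * D = I := by
  choose U hxU f hf hU using fun x => hD x
  refine Scheme.IdealSheafData.ext_of_iSup_eq_top U
    (eq_top_iff.2 fun x _ => Opens.mem_iSup.2 ⟨x, hxU x⟩) fun x => ?_
  rw [Scheme.IdealSheafData.ideal_mul, Pi.mul_apply]
  refine le_antisymm (Ideal.mul_le.2 fun a ha b hb => Submodule.mem_colon.1 ha b hb) fun a ha => ?_
  obtain ⟨c, rfl⟩ := Ideal.mem_span_singleton'.1 (hU x ▸ hle (U x) ha)
  refine Ideal.mul_mem_mul ?_ ((hU x).symm ▸ Ideal.mem_span_singleton_self _)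
  refine Submodule.mem_colon.2 fun d hd => ?_
  obtain ⟨e, rfl⟩ := Ideal.mem_span_singleton'.1 (hU x ▸ hd)
  rw [smul_eq_mul, show c * (e * f x) = e * (c * f x) by ring]
  exact Ideal.mul_mem_left _ _ ha

theorem mul_le_left (I J : X.IdealSheafData) : I * J ≤ I := fun U => by
  rw [Scheme.IdealSheafData.ideal_mul, Pi.mul_apply]; exact (Ideal.mul_le_left : I.ideal U * J.ideal U ≤ _)

theorem mul_le_right' (I J : X.IdealSheafData) : I * J ≤ J := fun U => by
  rw [Scheme.IdealSheafData.ideal_mul, Pi.mul_apply]; exact (Ideal.mul_le_right : I.ideal U * J.ideal U ≤ _)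

theorem mul_mono' {I I' J J' : X.IdealSheafData} (h : I ≤ I') (h' : J ≤ J') : I * J ≤ I' * J' := fun U => by
  simp only [Scheme.IdealSheafData.ideal_mul, Pi.mul_apply]; exact Ideal.mul_mono (h U) (h' U)

end Groth.L13.MP
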