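import Groth.Agent.L13.ModPair.Basic
import Groth.Agent.L13.BlowUp.Local
import Mathlib.RingTheory.Valuation.LocalSubring
import Mathlib.RingTheory.Ideal.MinimalPrime.Localization
import Mathlib.RingTheory.Valuation.ValuationRing

/-! Valuation ring points detecting effective Cartier ideals. -/

set_option autoImplicit false

universe u

open CategoryTheory CategoryTheory.Limits AlgebraicGeometry TopologicalSpace Opposite

namespace Groth.L13.MP

open Groth.L22

/-- a valuation ring centred at a prime where `x` becomes a pseudo-uniformizer -/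
theorem exists_valuation_point {B : Type u} [CommRing B] (x : B) (hx : x ∈ nonZeroDivisors B)
    (z : Ideal B) [z.IsPrime] (hxz : x ∈ z) :
    ∃ (V : Type u) (_ : CommRing V) (_ : IsDomain V) (_ : ValuationRing V) (χ : B →+* V),
      χ x ≠ 0 ∧ (∀ b ∈ z, ¬ IsUnit (χ b)) ∧ ∀ q : Ideal V, q.IsPrime → χ x ∉ q → q = ⊥ := by
  obtain ⟨P, hP, hPz⟩ := Ideal.exists_minimalPrimes_le (I := (⊥ : Ideal B)) (J := z) bot_le
  haveI := hP.1.1
  let K := FractionRing (B ⧸ P)
  let g : B →+* K := (algebraMap (B ⧸ P) K).comp (Ideal.Quotient.mk P)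
  have hg : ∀ b, g b = 0 ↔ b ∈ P := fun b => by
    simp only [g, RingHom.coe_comp, Function.comp_apply, map_eq_zero_iff _ (IsFractionRing.injective (B ⧸ P) K),
      Ideal.Quotient.eq_zero_iff_mem]
  have hgx : g x ≠ 0 := fun h => Set.disjoint_left.1 (Ideal.disjoint_nonZeroDivisors_of_mem_minimalPrimes hP) ((hg x).1 h) hx
  let φ : Localization.AtPrime z →+* K := IsLocalization.lift (M := z.primeCompl) (g := g)
    fun b => isUnit_iff_ne_zero.2 fun h => b.2 (hPz ((hg _).1 h))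
  have hφ : ∀ b, φ (algebraMap B _ b) = g b := fun b => IsLocalization.lift_eq _ b
  let I : Ideal φ.range := (IsLocalRing.maximalIdeal (Localization.AtPrime z)).map φ.rangeRestrict
  have hI : I ≠ ⊤ := fun h => by
    have h1 : Ideal.comap φ.rangeRestrict I = ⊤ := by rw [h, Ideal.comap_top]
    rw [Ideal.comap_map_of_surjective _ φ.rangeRestrict_surjective] at h1
    refine IsLocalRing.maximalIdeal.isMaximal _ |>.ne_top (eq_top_iff.2 (h1.ge.trans (sup_le le_rfl ?_)))
    intro y hy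
    refine (IsLocalRing.mem_maximalIdeal y).2 fun hu => ?_
    have := hu.map φ.rangeRestrict
    rw [Ideal.mem_comap, Ideal.mem_bot] at hy
    exact this.ne_zero hy
  obtain ⟨V, hAV, hIV⟩ := I.image_subset_nonunits_valuationSubring hI
  have hgV : ∀ b, g b ∈ V := fun b => hAV ⟨_, hφ b⟩
  let ψ : B →+* V := g.codRestrict V.toSubring hgV
  have hψ : ∀ b, b ∈ z → ¬ IsUnit (ψ b) := fun b hb hu => by
    have h1 : φ.rangeRestrict (algebraMap B _ b) ∈ I :=
      Ideal.mem_map_of_mem _ ((IsLocalization.AtPrime.to_map_mem_maximal_iff _ z b).2 hb)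
    have h2 : g b ∈ V.nonunits := hIV ⟨_, h1, hφ b⟩
    rw [ValuationSubring.mem_nonunits_iff_exists_mem_maximalIdeal] at h2
    obtain ⟨_, h3⟩ := h2
    exact (IsLocalRing.mem_maximalIdeal _).1 h3 hu
  let w : Ideal V := ⨅ n : ℕ, Ideal.span {ψ x ^ n}
  have hw : ∀ v, v ∈ w ↔ ∀ n : ℕ, ψ x ^ n ∣ v := fun v => by simp [w, Submodule.mem_iInf, Ideal.mem_span_singleton]
  have hx0 : ψ x ≠ 0 := fun h => hgx (congrArg Subtype.val h)
  haveI hwprime : w.IsPrime := by
    refine ⟨fun h => hψ x hxz (isUnit_of_dvd_one (pow_one (ψ x) ▸ (hw 1).1 (h ▸ Submodule.mem_top) 1)), fun {a b} hab => ?_⟩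
    by_contra hc
    push Not at hc
    obtain ⟨ha, hb⟩ := hc
    rw [hw] at ha hb
    push Not at ha hb
    obtain ⟨k, hk⟩ := ha
    obtain ⟨l, hl⟩ := hb
    obtain ⟨c, hc⟩ := (ValuationRing.dvd_total a (ψ x ^ k)).resolve_right hk
    obtain ⟨d, hd⟩ := (ValuationRing.dvd_total b (ψ x ^ l)).resolve_right hl
    obtain ⟨e, he⟩ := (hw _).1 hab (k + l + 1)
    have hee : ψ x ^ (k + l) * 1 = ψ x ^ (k + l) * (ψ x * (e * (c * d))) := by
      calc ψ x ^ (k + l) * 1 = (a * c) * (b * d) := by rw [mul_one, pow_add, hc, hd]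
        _ = a * b * (c * d) := by ring
        _ = _ := by rw [he]; ring
    exact hψ x hxz (IsUnit.of_mul_eq_one _ (mul_left_cancel₀ (pow_ne_zero _ hx0) hee).symm)
  have hxw : ψ x ∉ w := fun h => by
    obtain ⟨c, hc⟩ := (hw _).1 h 2
    refine hψ x hxz (IsUnit.of_mul_eq_one c (mul_left_cancel₀ hx0 ?_))
    rw [mul_one, ← mul_assoc, ← sq]
    exact hc.symm
  let π := Ideal.Quotient.mk w
  have hπu : ∀ v, IsUnit (π v) → IsUnit v := fun v h => by
    by_contra hv
    obtain ⟨c, hc⟩ := isUnit_iff_exists_inv.1 h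
    obtain ⟨c, rfl⟩ := Ideal.Quotient.mk_surjective c
    rw [← map_mul, ← map_one π, Ideal.Quotient.eq] at hc
    have h1 : (1 : V) ∈ IsLocalRing.maximalIdeal V := by
      have h2 : v * c ∈ IsLocalRing.maximalIdeal V := Ideal.mul_mem_right _ _ ((IsLocalRing.mem_maximalIdeal v).2 hv)
      have h3 := sub_mem h2 (IsLocalRing.le_maximalIdeal hwprime.ne_top hc)
      rwa [sub_sub_cancel] at h3
    exact IsLocalRing.notMem_maximalIdeal.2 isUnit_one h1
  haveI : PreValuationRing (V ⧸ w) :=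
    PreValuationRing.iff_dvd_total.2 ⟨fun a b => by
      obtain ⟨a, rfl⟩ := Ideal.Quotient.mk_surjective a
      obtain ⟨b, rfl⟩ := Ideal.Quotient.mk_surjective b
      exact (ValuationRing.dvd_total a b).imp (map_dvd π) (map_dvd π)⟩
  haveI : ValuationRing (V ⧸ w) := { }
  refine ⟨V ⧸ w, inferInstance, inferInstance, inferInstance, π.comp ψ, fun h => hxw (Ideal.Quotient.eq_zero_iff_mem.1 h),
    fun b hb h => hψ b hb (hπu _ h), fun q hq hxq => ?_⟩
  refine eq_bot_iff.2 fun a ha => ?_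
  obtain ⟨a, rfl⟩ := Ideal.Quotient.mk_surjective a
  refine (Submodule.mem_bot (V ⧸ w)).2 (Ideal.Quotient.eq_zero_iff_mem.2 ((hw a).2 fun n => ?_))
  rcases ValuationRing.dvd_total (ψ x ^ n) a with h | h
  · exact h
  · refine absurd (hq.mem_of_pow_mem n ?_) hxq
    show π (ψ x) ^ n ∈ q
    rw [← map_pow]
    exact Ideal.mem_of_dvd _ (map_dvd π h) ha

variable {X : Scheme.{u}}

theorem comap_fromSpec (I : X.IdealSheafData) (U : X.affineOpens) :
    I.comap (IsAffineOpen.fromSpec U.2) = BU.idealOf (I.ideal U) := by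
  refine Scheme.IdealSheafData.ext_of_isAffine ?_
  rw [BU.idealOf_top, Ideals.comap_ideal (IsAffineOpen.fromSpec U.2) _ U ⟨⊤, isAffineOpen_top _⟩
    (by rw [U.2.fromSpec_preimage_self])]
  congr 1
  rw [Scheme.Hom.appLE, U.2.fromSpec_app_self, Category.assoc, ← Functor.map_comp, CommRingCat.hom_comp]
  simp
  rfl

theorem comap_point (I : X.IdealSheafData) (U : X.affineOpens) {t : Γ(X, U.1)} (ht : I.ideal U = Ideal.span {t})
    {V : Type u} [CommRing V] (χ : Γ(X, U.1) →+* V) :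
    (I.comap (Spec.map (CommRingCat.ofHom χ) ≫ IsAffineOpen.fromSpec U.2)).ideal ⟨⊤, isAffineOpen_top _⟩ =
      Ideal.span {(Scheme.ΓSpecIso (CommRingCat.of V)).inv (χ t)} := by
  rw [Scheme.IdealSheafData.comap_comp, comap_fromSpec]
  refine (BU.comap_SpecMap χ (I.ideal U)).trans ?_
  rw [ht, Ideal.map_map, Ideal.map_span, Set.image_singleton]
  rfl

theorem isEffCartier_of_top {V : Type u} [CommRing V] {I : (Spec (CommRingCat.of V)).IdealSheafData} {v : V}
    (hv : v ∈ nonZeroDivisors V)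
    (h : I.ideal ⟨⊤, isAffineOpen_top _⟩ = Ideal.span {(Scheme.ΓSpecIso (CommRingCat.of V)).inv v}) :
    BlowUp.IsEffCartierIdeal I := fun y => by
  refine ⟨⟨⊤, isAffineOpen_top _⟩, trivial, _, ?_, h⟩
  rw [mem_nonZeroDivisors_iff_right] at hv ⊢
  intro s hs
  let e := (Scheme.ΓSpecIso (CommRingCat.of V)).commRingCatIsoToRingEquiv
  refine e.map_eq_zero_iff.1 (hv _ ?_)
  have h1 := congrArg e hs
  rw [map_mul, map_zero] at h1
  rwa [show e ((Scheme.ΓSpecIso (CommRingCat.of V)).inv v) = v from e.apply_symm_apply v] at h1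

theorem mem_interior_of_top {V : Type u} [CommRing V] {I : (Spec (CommRingCat.of V)).IdealSheafData} {v : V}
    (h : I.ideal ⟨⊤, isAffineOpen_top _⟩ = Ideal.span {(Scheme.ΓSpecIso (CommRingCat.of V)).inv v})
    (y : Spec (CommRingCat.of V)) : y ∈ ModPair.interior I ↔ v ∉ y.asIdeal := by
  have h1 := interior_inf_eq_basicOpen h
  have h2 : y ∈ (⊤ : (Spec (CommRingCat.of V)).Opens) ⊓ ModPair.interior I ↔ y ∈ PrimeSpectrum.basicOpen v := by
    rw [h1, basicOpen_eq_of_affine]; rfl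
  exact ⟨fun hy => h2.1 ⟨trivial, hy⟩, fun hy => (h2.2 hy).2⟩

theorem span_inv_eq_top_iff {V : Type u} [CommRing V] (v : V) :
    Ideal.span {(Scheme.ΓSpecIso (CommRingCat.of V)).inv v} = ⊤ ↔ IsUnit v := by
  rw [Ideal.span_singleton_eq_top]
  exact isUnit_map_iff (Scheme.ΓSpecIso (CommRingCat.of V)).symm.commRingCatIsoToRingEquiv v

end Groth.L13.MP
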