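import Groth.Agent.L13.ModPair.Basic
import Groth.Agent.L22.FlatPullback
import Mathlib.CategoryTheory.Localization.CalculusOfFractions

/-! Products of modulus pairs along a minimal leg, and fractions. -/

set_option autoImplicit false

universe u

open CategoryTheory CategoryTheory.Limits AlgebraicGeometry TopologicalSpace Opposite

namespace Groth.L13.MP

open Groth.L22

variable {S T X : Scheme.{u}} (f : X ⟶ S) (g : T ⟶ S) (IX : X.IdealSheafData) (IT : T.IdealSheafData)

/-- the dense open of the product -/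
noncomputable abbrev mOpen : (ModPair.mprod f g IX IT).Opens :=
  ModPair.mprodι f g IX IT ⁻¹ᵁ ModPair.prodInterior f g IX IT

variable {IX IT}

theorem quasiCompact_prodInterior (hX : BlowUp.IsEffCartierIdeal IX) (hT : BlowUp.IsEffCartierIdeal IT) :
    QuasiCompact (ModPair.prodInterior f g IX IT).ι :=
  quasiCompact_inf (quasiCompact_preimage _ (quasiCompact_interior hX)) (quasiCompact_preimage _ (quasiCompact_interior hT))

theorem quasiCompact_mOpen (hX : BlowUp.IsEffCartierIdeal IX) (hT : BlowUp.IsEffCartierIdeal IT) :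
    QuasiCompact (mOpen f g IX IT).ι :=
  quasiCompact_preimage _ (quasiCompact_prodInterior f g hX hT)

theorem dominant_mOpen (hX : BlowUp.IsEffCartierIdeal IX) (hT : BlowUp.IsEffCartierIdeal IT) :
    IsSchemeTheoreticallyDominant (mOpen f g IX IT).ι :=
  haveI := quasiCompact_prodInterior f g hX hT
  dominant_preimage_image _

theorem mOpen_le_fst :
    mOpen f g IX IT ≤ (ModPair.mprodι f g IX IT ≫ pullback.fst f g) ⁻¹ᵁ ModPair.interior IX := fun _ h => h.1

theorem mOpen_le_snd :
    mOpen f g IX IT ≤ (ModPair.mprodι f g IX IT ≫ pullback.snd f g) ⁻¹ᵁ ModPair.interior IT := fun _ h => h.2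

theorem isEffCartier_fst (hX : BlowUp.IsEffCartierIdeal IX) (hT : BlowUp.IsEffCartierIdeal IT) :
    BlowUp.IsEffCartierIdeal (IX.comap (ModPair.mprodι f g IX IT ≫ pullback.fst f g)) :=
  haveI := quasiCompact_mOpen f g hX hT
  haveI := dominant_mOpen f g hX hT
  isEffCartier_comap _ hX (mOpen_le_fst f g)

theorem isEffCartier_snd (hX : BlowUp.IsEffCartierIdeal IX) (hT : BlowUp.IsEffCartierIdeal IT) :
    BlowUp.IsEffCartierIdeal (IT.comap (ModPair.mprodι f g IX IT ≫ pullback.snd f g)) :=
  haveI := quasiCompact_mOpen f g hX hT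
  haveI := dominant_mOpen f g hX hT
  isEffCartier_comap _ hT (mOpen_le_snd f g)

/-- maps from a pair whose moduli dominate both factors land in the product -/
theorem existsUnique_lift {W : Scheme.{u}} {IW : W.IdealSheafData} (hW : BlowUp.IsEffCartierIdeal IW)
    (b : W ⟶ X) (a : W ⟶ T) (hb : ModPair.IsAmbient IW IX b) (ha : ModPair.IsAmbient IW IT a) (h : b ≫ f = a ≫ g) :
    ∃! c : W ⟶ ModPair.mprod f g IX IT,
      c ≫ ModPair.mprodι f g IX IT ≫ pullback.fst f g = b ∧ c ≫ ModPair.mprodι f g IX IT ≫ pullback.snd f g = a := by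
  haveI := dominant_interior hW
  let c0 := pullback.lift b a h
  have hle : ModPair.interior IW ≤ c0 ⁻¹ᵁ ModPair.prodInterior f g IX IT := fun x hx =>
    ⟨show (c0 ≫ pullback.fst f g) x ∈ ModPair.interior IX by rw [pullback.lift_fst]; exact ambient_interior_le hb hx,
     show (c0 ≫ pullback.snd f g) x ∈ ModPair.interior IT by rw [pullback.lift_snd]; exact ambient_interior_le ha hx⟩
  have hker : (ModPair.mprodι f g IX IT).ker ≤ c0.ker := by
    have h1 : c0.ker = ((ModPair.interior IW).ι ≫ c0).ker := by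
      rw [Scheme.Hom.ker_comp, (ModPair.interior IW).ι.ker_eq_bot, Scheme.IdealSheafData.map_bot]
    rw [h1, Scheme.IdealSheafData.ker_subschemeι, ← Scheme.Hom.resLE_comp_ι c0 hle]
    exact Scheme.Hom.le_ker_comp _ _
  refine ⟨IsClosedImmersion.lift _ c0 hker, ⟨?_, ?_⟩, fun c hc => ?_⟩
  · rw [IsClosedImmersion.lift_fac_assoc, pullback.lift_fst]
  · rw [IsClosedImmersion.lift_fac_assoc, pullback.lift_snd]
  · rw [← cancel_mono (ModPair.mprodι f g IX IT), IsClosedImmersion.lift_fac]
    apply pullback.hom_ext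
    · rw [Category.assoc, hc.1, pullback.lift_fst]
    · rw [Category.assoc, hc.2, pullback.lift_snd]

/-- the second projection over an open above which `f` becomes an isomorphism -/
theorem isIso_snd_restrict (U : S.Opens) (V : T.Opens) (hV : V ≤ g ⁻¹ᵁ U) [IsIso (f ∣_ U)] :
    IsIso (pullback.snd f g ∣_ V) := by
  have h1 := (isPullback_morphismRestrict (pullback.snd f g) V).flip.paste_horiz (IsPullback.of_hasPullback f g)
  rw [← Scheme.Hom.resLE_comp_ι g hV] at h1
  have hrange : (pullback.snd f g ⁻¹ᵁ V) ≤ pullback.fst f g ⁻¹ᵁ (f ⁻¹ᵁ U) := fun x hx => by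
    show (pullback.fst f g ≫ f) x ∈ U
    rw [pullback.condition]
    exact hV hx
  rw [← Scheme.Hom.resLE_comp_ι (pullback.fst f g) hrange] at h1
  have h3 : (pullback.fst f g).resLE (f ⁻¹ᵁ U) (pullback.snd f g ⁻¹ᵁ V) hrange ≫ (f ∣_ U) =
      (pullback.snd f g ∣_ V) ≫ g.resLE U V hV := by
    rw [← cancel_mono U.ι, Category.assoc, Category.assoc, morphismRestrict_ι]
    have := h1.w
    simp only [Category.assoc] at this ⊢
    exact this
  have h4 := IsPullback.of_right h1 h3 (isPullback_morphismRestrict f U).flip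
  exact MorphismProperty.of_isPullback (P := MorphismProperty.isomorphisms Scheme) h4
    (inferInstanceAs (IsIso (f ∣_ U)))

variable {IS : S.IdealSheafData}

theorem admBlowup_snd (hT : BlowUp.IsEffCartierIdeal IT) (hX : BlowUp.IsEffCartierIdeal IX)
    (hg : ModPair.IsAmbient IT IS g) (hs : ModPair.IsAdmBlowup IX IS f) :
    ModPair.IsAdmBlowup (IT.comap (ModPair.mprodι f g IX IT ≫ pullback.snd f g)) IT
        (ModPair.mprodι f g IX IT ≫ pullback.snd f g) ∧
      ModPair.IsAmbient (IT.comap (ModPair.mprodι f g IX IT ≫ pullback.snd f g)) IX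
        (ModPair.mprodι f g IX IT ≫ pullback.fst f g) := by
  obtain ⟨hmin, hproper, hiso⟩ := hs
  haveI := hproper
  haveI := hiso
  have hW : ModPair.prodInterior f g IX IT = pullback.snd f g ⁻¹ᵁ ModPair.interior IT := by
    refine le_antisymm inf_le_right (le_inf ?_ le_rfl)
    intro x hx
    show pullback.fst f g x ∈ ModPair.interior IX
    rw [minimal_interior hmin]
    show (pullback.fst f g ≫ f) x ∈ ModPair.interior IS
    rw [pullback.condition]
    exact ambient_interior_le hg hx
  haveI : IsProper (pullback.snd f g) := inferInstance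
  refine ⟨⟨rfl, inferInstance, ?_⟩, ?_⟩
  · have hi1 := isIso_snd_restrict f g _ _ (ambient_interior_le hg)
    have hi2 : IsIso (ModPair.mprodι f g IX IT ∣_ (pullback.snd f g ⁻¹ᵁ ModPair.interior IT)) :=
      hW ▸ isIso_imageι_restrict (ModPair.prodInterior f g IX IT)
    rw [morphismRestrict_comp]
    exact IsIso.comp_isIso' hi2 hi1
  · show _ ≤ _
    rw [hmin, ← Scheme.IdealSheafData.comap_comp, Category.assoc, pullback.condition, ← Category.assoc]
    conv_rhs => rw [Scheme.IdealSheafData.comap_comp]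
    exact Scheme.IdealSheafData.comap_mono _ hg

theorem isAdmBlowup_id (I : X.IdealSheafData) : ModPair.IsAdmBlowup I I (𝟙 X) :=
  ⟨(Scheme.IdealSheafData.comap_id I).symm, inferInstance, inferInstance⟩

theorem isAdmBlowup_comp {Y Z : Scheme.{u}} {I : X.IdealSheafData} {J : Y.IdealSheafData} {K : Z.IdealSheafData}
    {f : X ⟶ Y} {g : Y ⟶ Z} (hf : ModPair.IsAdmBlowup I J f) (hg : ModPair.IsAdmBlowup J K g) :
    ModPair.IsAdmBlowup I K (f ≫ g) := by
  obtain ⟨hm, hp, hi⟩ := hf
  obtain ⟨hm', hp', hi'⟩ := hg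
  haveI := hp
  haveI := hp'
  refine ⟨by show _ = _; rw [hm, hm', Scheme.IdealSheafData.comap_comp], inferInstance, ?_⟩
  rw [minimal_interior hm'] at hi
  rw [morphismRestrict_comp]
  exact IsIso.comp_isIso' hi hi'

theorem admBlowup_cancel {P Q R : ModPair.Pair.{u}} (a b : P ⟶ Q) (s : Q ⟶ R) (hs : ModPair.Pair.admBlowup s)
    (h : a ≫ s = b ≫ s) : a = b := by
  obtain ⟨hmin, hproper, hiso⟩ := hs
  haveI := hproper
  haveI := hiso
  haveI := dominant_interior P.isEffCartier
  have hh : a.hom ≫ s.hom = b.hom ≫ s.hom := congrArg ModPair.Pair.Hom.hom h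
  refine ModPair.Pair.Hom.ext (hom_ext_dominant (W := ModPair.interior P.mod) s.hom hh ?_)
  have ha := ambient_interior_le a.cond
  have hb := ambient_interior_le b.cond
  rw [minimal_interior hmin] at ha hb
  rw [← Scheme.Hom.resLE_comp_ι a.hom ha, ← Scheme.Hom.resLE_comp_ι b.hom hb]
  congr 1
  rw [← cancel_mono (s.hom ∣_ ModPair.interior R.mod), ← cancel_mono (ModPair.interior R.mod).ι]
  simp only [Category.assoc, morphismRestrict_ι, Scheme.Hom.resLE_comp_ι_assoc]
  rw [hh]

theorem hasRightCalculus : (ModPair.Pair.admBlowup.{u}).HasRightCalculusOfFractions where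
  id_mem P := isAdmBlowup_id P.mod
  comp_mem _ _ hf hg := isAdmBlowup_comp hf hg
  exists_rightFraction := by
    intro P Q φ
    have h := admBlowup_snd φ.s.hom φ.f.hom P.isEffCartier Q.isEffCartier φ.f.cond φ.hs
    let W : ModPair.Pair.{u} := ⟨_, _, isEffCartier_snd φ.s.hom φ.f.hom Q.isEffCartier P.isEffCartier⟩
    let sW : W ⟶ P := ⟨ModPair.mprodι φ.s.hom φ.f.hom Q.mod P.mod ≫ pullback.snd φ.s.hom φ.f.hom, le_rfl⟩
    let fW : W ⟶ Q := ⟨ModPair.mprodι φ.s.hom φ.f.hom Q.mod P.mod ≫ pullback.fst φ.s.hom φ.f.hom, h.2⟩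
    exact ⟨⟨sW, h.1, fW⟩, by
      apply ModPair.Pair.Hom.ext
      show (_ ≫ _) ≫ φ.f.hom = (_ ≫ _) ≫ φ.s.hom
      simp [pullback.condition]⟩
  ext P Q R a b s hs h := ⟨P, 𝟙 P, isAdmBlowup_id P.mod, by rw [admBlowup_cancel a b s hs h]⟩

end Groth.L13.MP
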