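import Groth.Prelude.Def_W4c6modpairsegaMP
import Groth.Agent.L22.BlowUp
import Mathlib.AlgebraicGeometry.Morphisms.SchemeTheoreticallyDominant
import Mathlib.AlgebraicGeometry.Morphisms.ClosedImmersion
import Mathlib.AlgebraicGeometry.Morphisms.Proper
import Mathlib.AlgebraicGeometry.Pullbacks
import Mathlib.CategoryTheory.MorphismProperty.Limits

/-! Interiors of modulus pairs, schematic density and scheme-theoretic images of opens. -/

set_option autoImplicit false

universe u

open CategoryTheory CategoryTheory.Limits AlgebraicGeometry TopologicalSpace Opposite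

namespace Groth.L13.MP

open Groth.L22

variable {X Y Z : Scheme.{u}}

theorem mem_interior {I : X.IdealSheafData} {x : X} : x ∈ ModPair.interior I ↔ x ∉ I.support := Iff.rfl

theorem interior_comap (I : Y.IdealSheafData) (f : X ⟶ Y) :
    ModPair.interior (I.comap f) = f ⁻¹ᵁ ModPair.interior I := by
  ext x
  change x ∉ (I.comap f).support ↔ f x ∉ I.support
  rw [Scheme.IdealSheafData.support_comap]
  rfl

theorem interior_mono {I J : X.IdealSheafData} (h : I ≤ J) : ModPair.interior I ≤ ModPair.interior J :=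
  fun _ hx hx' => hx (Scheme.IdealSheafData.support_antitone h hx')

theorem interior_mul (I J : X.IdealSheafData) :
    ModPair.interior (I * J) = ModPair.interior I ⊓ ModPair.interior J := by
  ext x
  change x ∉ (I * J).support ↔ x ∉ I.support ∧ x ∉ J.support
  rw [Scheme.IdealSheafData.support_mul]
  exact not_or

theorem ambient_interior_le {I : X.IdealSheafData} {J : Y.IdealSheafData} {f : X ⟶ Y}
    (h : ModPair.IsAmbient I J f) : ModPair.interior I ≤ f ⁻¹ᵁ ModPair.interior J :=
  (interior_mono h).trans_eq (interior_comap J f)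

theorem minimal_interior {I : X.IdealSheafData} {J : Y.IdealSheafData} {f : X ⟶ Y}
    (h : ModPair.IsMinimal I J f) : ModPair.interior I = f ⁻¹ᵁ ModPair.interior J := by
  rw [h, interior_comap]

theorem minimal_ambient {I : X.IdealSheafData} {J : Y.IdealSheafData} {f : X ⟶ Y}
    (h : ModPair.IsMinimal I J f) : ModPair.IsAmbient I J f := le_of_eq h

/-- on an affine open where `I` is principal the interior is a basic open -/
theorem interior_inf_eq_basicOpen {I : X.IdealSheafData} {U : X.affineOpens} {g : Γ(X, U.1)}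
    (hg : I.ideal U = Ideal.span {g}) : U.1 ⊓ ModPair.interior I = X.basicOpen g := by
  ext x
  simp only [SetLike.mem_coe, Opens.mem_inf]
  constructor
  · rintro ⟨hxU, hx⟩
    rw [mem_interior, Scheme.IdealSheafData.mem_support_iff_of_mem hxU, hg, Scheme.zeroLocus_span,
      Scheme.zeroLocus_singleton] at hx
    exact Set.notMem_compl_iff.1 hx
  · intro hx
    have hxU := X.basicOpen_le g hx
    refine ⟨hxU, ?_⟩
    rw [mem_interior, Scheme.IdealSheafData.mem_support_iff_of_mem hxU, hg, Scheme.zeroLocus_span,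
      Scheme.zeroLocus_singleton]
    exact Set.notMem_compl_iff.2 hx

/-- the interior of an effective Cartier ideal is affine over the scheme -/
theorem isAffineHom_interior {I : X.IdealSheafData} (hI : BlowUp.IsEffCartierIdeal I) :
    IsAffineHom (ModPair.interior I).ι := by
  choose U hxU g hg hgI hgV using Ideals.exists_generator hI
  refine isAffineHom_of_forall_exists_isAffineOpen _ fun x => ⟨(U x).1, hxU x, (U x).2, ?_⟩
  rw [Scheme.Hom.isAffineOpen_iff_of_isOpenImmersion (ModPair.interior I).ι |>.symm]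
  rw [Scheme.Hom.image_preimage_eq_opensRange_inf, Scheme.Opens.opensRange_ι, inf_comm,
    interior_inf_eq_basicOpen (hgI x)]
  exact (U x).2.basicOpen _

theorem quasiCompact_interior {I : X.IdealSheafData} (hI : BlowUp.IsEffCartierIdeal I) :
    QuasiCompact (ModPair.interior I).ι := by
  haveI := isAffineHom_interior hI
  infer_instance

theorem quasiCompact_preimage (f : X ⟶ Y) {U : Y.Opens} (h : QuasiCompact U.ι) : QuasiCompact (f ⁻¹ᵁ U).ι :=
  MorphismProperty.of_isPullback (isPullback_morphismRestrict f U) h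

theorem quasiCompact_inf {U V : X.Opens} (hU : QuasiCompact U.ι) (hV : QuasiCompact V.ι) :
    QuasiCompact (U ⊓ V).ι := by
  have h1 : QuasiCompact (U.ι ⁻¹ᵁ V).ι := quasiCompact_preimage U.ι hV
  haveI := hU
  have h2 : QuasiCompact ((U.ι ⁻¹ᵁ V).ι ≫ U.ι) := inferInstance
  have hr : Set.range ((U.ι ⁻¹ᵁ V).ι ≫ U.ι) = Set.range (U ⊓ V).ι := by
    rw [Scheme.Hom.comp_base, TopCat.coe_comp, Set.range_comp, Scheme.Opens.range_ι, Scheme.Opens.range_ι]
    ext x
    constructor
    · rintro ⟨y, hy, rfl⟩; exact ⟨y.2, hy⟩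
    · rintro ⟨hx, hx'⟩; exact ⟨⟨x, hx⟩, hx', rfl⟩
  rw [← IsOpenImmersion.isoOfRangeEq_inv_fac _ _ hr]
  exact MorphismProperty.comp_mem _ _ _ inferInstance h2

/-- density is inherited by bigger quasi-compact opens -/
theorem dominant_mono {W W' : X.Opens} (h : W ≤ W') [IsSchemeTheoreticallyDominant W.ι] :
    IsSchemeTheoreticallyDominant W'.ι := by
  refine ⟨le_bot_iff.1 ?_⟩
  rw [← W.ι.ker_eq_bot, ← Scheme.homOfLE_ι X h]
  exact Scheme.Hom.le_ker_comp _ _

/-- sections vanishing on a dense open vanish -/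
theorem eq_zero_of_res {W : X.Opens} [IsSchemeTheoreticallyDominant W.ι] [QuasiCompact W.ι]
    {V : X.Opens} (s : Γ(X, V)) (h : ∀ (y : X) (hy : y ∈ V), y ∈ W → X.presheaf.germ V y hy s = 0) : s = 0 := by
  refine W.ι.app_injective V ?_
  rw [map_zero]
  have h1 : X.presheaf.map (homOfLE (show W ⊓ V ≤ V from inf_le_right)).op s = 0 := by
    refine TopCat.Presheaf.section_ext X.sheaf _ _ 0 fun y hy => ?_
    change X.presheaf.germ _ y hy (X.presheaf.map _ s) = X.presheaf.germ _ y hy 0
    rw [TopCat.Presheaf.germ_res_apply, map_zero]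
    exact h y hy.2 hy.1
  rw [Scheme.Opens.ι_app]
  have hle : W.ι ''ᵁ (W.ι ⁻¹ᵁ V) ≤ W ⊓ V := by
    rw [Scheme.Hom.image_preimage_eq_opensRange_inf, Scheme.Opens.opensRange_ι]
  have h2 := congrArg (X.presheaf.map (homOfLE hle).op) h1
  rw [map_zero, ← CategoryTheory.comp_apply, ← Functor.map_comp] at h2
  exact h2

/-- the interior of an effective Cartier ideal is schematically dense -/
theorem dominant_interior {I : X.IdealSheafData} (hI : BlowUp.IsEffCartierIdeal I) :
    IsSchemeTheoreticallyDominant (ModPair.interior I).ι := by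
  haveI := quasiCompact_interior hI
  choose U hxU g hg hgI hgV using Ideals.exists_generator hI
  refine ⟨Scheme.IdealSheafData.ext_of_iSup_eq_top U (eq_top_iff.2 fun x _ => Opens.mem_iSup.2 ⟨x, hxU x⟩) fun x => ?_⟩
  rw [Scheme.Hom.ker_apply, Scheme.IdealSheafData.ideal_bot, Pi.bot_apply, eq_bot_iff]
  intro s hs
  refine Mero.eq_zero_of_germ_eq_zero (U x).2 (Mero.mem_regSub_of_mem_nonZeroDivisors (U x).2 (hg x)) s ?_
  intro y hy hu
  have hyW : y ∈ ModPair.interior I := by
    have := (X.mem_basicOpen (g x) y hy).2 hu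
    rw [← interior_inf_eq_basicOpen (hgI x)] at this
    exact this.2
  rw [RingHom.mem_ker, Scheme.Opens.ι_app] at hs
  change (X.presheaf.map _).hom s = 0 at hs
  have hle : ModPair.interior I ⊓ (U x).1 ≤ (ModPair.interior I).ι ''ᵁ ((ModPair.interior I).ι ⁻¹ᵁ (U x).1) := by
    rw [Scheme.Hom.image_preimage_eq_opensRange_inf, Scheme.Opens.opensRange_ι]
  have := (congrArg (X.presheaf.germ _ y (hle ⟨hyW, hy⟩)) hs).trans (map_zero (X.presheaf.germ _ y (hle ⟨hyW, hy⟩)).hom)
  exact (TopCat.Presheaf.germ_res_apply X.presheaf _ y _ s).symm.trans this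

/-- a pulled back effective Cartier ideal is effective Cartier if its interior is dense -/
theorem isEffCartier_comap (f : X ⟶ Y) {I : Y.IdealSheafData} (hI : BlowUp.IsEffCartierIdeal I) {W : X.Opens}
    [IsSchemeTheoreticallyDominant W.ι] [QuasiCompact W.ι] (hW : W ≤ f ⁻¹ᵁ ModPair.interior I) :
    BlowUp.IsEffCartierIdeal (I.comap f) := by
  intro x
  obtain ⟨U, hxU, t, -, htI, -⟩ := Ideals.exists_generator hI (f x)
  obtain ⟨_, ⟨V, hV, rfl⟩, hxV, hVU⟩ := X.isBasis_affineOpens.exists_subset_of_mem_open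
    (a := x) (show x ∈ f ⁻¹ᵁ U.1 from hxU) (f ⁻¹ᵁ U.1).2
  replace hVU : V ≤ f ⁻¹ᵁ U.1 := hVU
  refine ⟨⟨V, hV⟩, hxV, f.appLE U.1 V hVU t, ?_, ?_⟩
  · rw [mem_nonZeroDivisors_iff_right]
    intro a ha
    refine eq_zero_of_res (W := W) a fun y hy hyW => ?_
    have h2 := congrArg (X.presheaf.germ V y hy) ha
    rw [map_mul, map_zero] at h2
    refine IsUnit.mul_left_eq_zero ?_ |>.1 h2
    have hfy : f y ∈ U.1 ⊓ ModPair.interior I := ⟨hVU hy, hW hyW⟩
    rw [interior_inf_eq_basicOpen htI] at hfy
    have hyU : f y ∈ U.1 := hVU hy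
    have h1 : X.presheaf.germ V y hy (f.appLE U.1 V hVU t) =
        f.stalkMap y (Y.presheaf.germ U.1 (f y) hyU t) := by
      rw [Scheme.Hom.appLE]
      change X.presheaf.germ V y hy (X.presheaf.map _ (f.app U.1 t)) = _
      rw [TopCat.Presheaf.germ_res_apply]
      exact (Scheme.Hom.germ_stalkMap_apply f U.1 y hyU t).symm
    rw [h1]
    exact ((Y.mem_basicOpen t (f y) hyU).1 hfy).map _
  · rw [Ideals.comap_ideal f I U ⟨V, hV⟩ hVU, htI, Ideal.map_span, Set.image_singleton]

theorem isEffCartier_comap_of_ambient {I : X.IdealSheafData} {J : Y.IdealSheafData} {f : X ⟶ Y}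
    (hI : BlowUp.IsEffCartierIdeal I) (hJ : BlowUp.IsEffCartierIdeal J) (hf : ModPair.IsAmbient I J f) :
    BlowUp.IsEffCartierIdeal (J.comap f) := by
  haveI := quasiCompact_interior hI
  haveI := dominant_interior hI
  exact isEffCartier_comap f hJ (ambient_interior_le hf)

/-- the map to the scheme-theoretic image is schematically dominant -/
theorem dominant_toImage (f : X ⟶ Y) [QuasiCompact f] : IsSchemeTheoreticallyDominant f.toImage := by
  refine ⟨Scheme.IdealSheafData.ext_of_iSup_eq_top
    (fun U : Y.affineOpens => (⟨f.imageι ⁻¹ᵁ U.1, U.2.preimage f.imageι⟩ : f.image.affineOpens)) ?_ fun U => ?_⟩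
  · rw [← Scheme.Hom.preimage_iSup, iSup_affineOpens_eq_top]
    rfl
  · rw [Scheme.Hom.ker_apply, Scheme.IdealSheafData.ideal_bot, Pi.bot_apply, ← RingHom.injective_iff_ker_eq_bot]
    exact f.toImage_app_injective U

/-- an open is cartesian in its scheme-theoretic image -/
theorem isPullback_toImage (W : X.Opens) : IsPullback W.ι.toImage (𝟙 W.toScheme) W.ι.imageι W.ι :=
  ⟨⟨by rw [Category.id_comp, Scheme.Hom.toImage_imageι]⟩, ⟨PullbackCone.IsLimit.mk _ (fun s => s.snd)
    (fun s => by rw [← cancel_mono W.ι.imageι, Category.assoc, Scheme.Hom.toImage_imageι, s.condition])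
    (fun _ => Category.comp_id _) (fun s m _ h => (Category.comp_id m).symm.trans h)⟩⟩

theorem isIso_imageι_restrict (W : X.Opens) : IsIso (W.ι.imageι ∣_ W) := by
  have h1 := isPullback_morphismRestrict W.ι.imageι W
  have h2 := (isPullback_toImage W).flip
  have h3 : (h1.isoIsPullback _ _ h2).hom ≫ 𝟙 _ = W.ι.imageι ∣_ W := IsPullback.isoIsPullback_hom_fst _ _ _ _
  rw [Category.comp_id] at h3
  rw [← h3]
  infer_instance

theorem isOpenImmersion_toImage (W : X.Opens) : IsOpenImmersion W.ι.toImage :=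
  MorphismProperty.of_isPullback (P := @IsOpenImmersion) (isPullback_toImage W).flip inferInstance

theorem range_toImage (W : X.Opens) :
    Set.range W.ι.toImage = W.ι.imageι ⁻¹' (W : Set X) := by
  ext z
  constructor
  · rintro ⟨w, rfl⟩
    show W.ι.imageι (W.ι.toImage w) ∈ W
    rw [← Scheme.Hom.comp_apply, Scheme.Hom.toImage_imageι]
    exact w.2
  · intro hz
    refine ⟨⟨W.ι.imageι z, hz⟩, W.ι.imageι.isClosedEmbedding.injective ?_⟩
    refine (Scheme.Hom.comp_apply W.ι.toImage W.ι.imageι _).symm.trans ?_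
    rw [Scheme.Hom.toImage_imageι]
    rfl

theorem dominant_preimage_image (W : X.Opens) [QuasiCompact W.ι] :
    IsSchemeTheoreticallyDominant (W.ι.imageι ⁻¹ᵁ W).ι := by
  haveI := isOpenImmersion_toImage W
  haveI := dominant_toImage W.ι
  have hr : Set.range W.ι.toImage = Set.range (W.ι.imageι ⁻¹ᵁ W).ι := by
    rw [Scheme.Opens.range_ι, range_toImage]; rfl
  refine ⟨?_⟩
  rw [← IsOpenImmersion.isoOfRangeEq_inv_fac _ _ hr, Scheme.Hom.ker_comp_of_isIso, Scheme.Hom.ker_eq_bot]

/-- morphisms agreeing on a dense open and after a separated morphism are equal -/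
theorem hom_ext_dominant {W : X.Opens} [IsSchemeTheoreticallyDominant W.ι] {f g : X ⟶ Y} (t : Y ⟶ Z)
    [IsSeparated t] (h : f ≫ t = g ≫ t) (hW : W.ι ≫ f = W.ι ≫ g) : f = g := by
  let i := pullback.fst (pullback.lift f g h : X ⟶ pullback t t) (pullback.diagonal t)
  have hfac : W.ι ≫ pullback.lift f g h = (W.ι ≫ f) ≫ pullback.diagonal t := by
    apply pullback.hom_ext
    · simp only [Category.assoc, pullback.lift_fst, pullback.diagonal_fst, Category.comp_id]
    · simp only [Category.assoc, pullback.lift_snd, pullback.diagonal_snd, Category.comp_id, hW]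
  have hker : i.ker = ⊥ := le_bot_iff.1 (by
    rw [← W.ι.ker_eq_bot, ← pullback.lift_fst _ _ hfac]
    exact Scheme.Hom.le_ker_comp _ _)
  haveI : IsClosedImmersion i := inferInstance
  haveI : IsIso i := IsClosedImmersion.isIso_iff_ker_eq_bot.2 hker
  have hc := pullback.condition (f := pullback.lift f g h) (g := pullback.diagonal t)
  have h1 := congrArg (· ≫ pullback.fst t t) hc
  have h2 := congrArg (· ≫ pullback.snd t t) hc
  simp only [Category.assoc, pullback.lift_fst, pullback.lift_snd, pullback.diagonal_fst, pullback.diagonal_snd,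
    Category.comp_id] at h1 h2
  rw [← cancel_epi i]
  exact h1.trans h2.symm

end Groth.L13.MP
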