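import Groth.Agent.L19.Approx.IdealStage
import Groth.Agent.L19.Approx.Embed
import Groth.Agent.L13.ModPair.Colon
import Mathlib.AlgebraicGeometry.Morphisms.SchemeTheoreticallyDominant
import Mathlib.CategoryTheory.Limits.Constructions.Over.Connected

/-! Morphisms and ideal inequalities on cofiltered limits of schemes. -/

set_option autoImplicit false

universe u

open CategoryTheory CategoryTheory.Limits AlgebraicGeometry TopologicalSpace Opposite

namespace Groth.L13.MP

open Groth.L22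

variable {I : Type u} [Category.{u} I] [IsCofiltered I] {D : I ⥤ Scheme.{u}} {c : Cone D}

theorem appLE_comp_apply {X Y Z : Scheme.{u}} (f : X ⟶ Y) (g : Y ⟶ Z) {h : X ⟶ Z} (hh : f ≫ g = h) {U : Z.Opens}
    {V : Y.Opens} {W : X.Opens} (e₁ : V ≤ g ⁻¹ᵁ U) (e₂ : W ≤ f ⁻¹ᵁ V) (e₃ : W ≤ h ⁻¹ᵁ U) (s : Γ(Z, U)) :
    f.appLE V W e₂ (g.appLE U V e₁ s) = h.appLE U W e₃ s := by
  subst hh
  rw [← CommRingCat.comp_apply, Scheme.Hom.appLE_comp_appLE]

theorem appLE_eq_app {X Y : Scheme.{u}} (f : X ⟶ Y) (U : Y.Opens) (s : Γ(Y, U)) :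
    f.appLE U (f ⁻¹ᵁ U) le_rfl s = f.app U s := by
  rw [Scheme.Hom.app_eq_appLE]

variable [∀ {i j} (f : i ⟶ j), IsAffineHom (D.map f)]

set_option backward.isDefEq.respectTransparency.types false in
/-- an inclusion of ideal sheaves with finitely generated left side holds at a stage if it holds on the limit -/
theorem exists_le_comap_stage (hc : IsLimit c) [∀ i, CompactSpace (D.obj i)] [∀ i, QuasiSeparatedSpace (D.obj i)]
    {i : I} (J K : (D.obj i).IdealSheafData) (hJ : LocFG J) (h : J.comap (c.π.app i) ≤ K.comap (c.π.app i)) :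
    ∃ (j : I) (t : j ⟶ i), J.comap (D.map t) ≤ K.comap (D.map t) := by
  classical
  haveI := fun i => isAffineHom_π_app D c hc i
  let π : ∀ j, c.pt ⟶ D.obj j := fun j => c.π.app j
  have hπ : ∀ {a b : I} (f : a ⟶ b), π a ≫ D.map f = π b := fun f => c.w f
  haveI hπa : ∀ j, IsAffineHom (π j) := fun j => isAffineHom_π_app D c hc j
  obtain ⟨S, hS, hcov⟩ := Groth.L19.Approx.exists_finite_affineOpens (U := (⊤ : (D.obj i).Opens)) isCompact_univ
  haveI := hS.to_subtype
  haveI := Fintype.ofFinite S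
  let V : ∀ (U : S) (j : Over i), (D.obj j.left).Opens := fun U j => D.map j.hom ⁻¹ᵁ U.1.1
  let W : ∀ U : S, c.pt.Opens := fun U => π i ⁻¹ᵁ U.1.1
  have hWV : ∀ (U : S) (j : Over i), W U ≤ π j.left ⁻¹ᵁ V U j := fun U j => by
    rw [← Scheme.Hom.comp_preimage, hπ]
  have hVV : ∀ (U : S) {j l : Over i} (m : l ⟶ j), V U l ≤ D.map m.left ⁻¹ᵁ V U j := fun U j l m => by
    rw [← Scheme.Hom.comp_preimage, ← D.map_comp, Over.w m]
  let KI : ∀ (U : S) (j : Over i), Ideal Γ(D.obj j.left, V U j) := fun U j =>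
    (K.ideal U.1).map ((D.map j.hom).appLE U.1.1 (V U j) le_rfl).hom
  have push : ∀ (U : S) {j l : Over i} (m : l ⟶ j) (y : Γ(D.obj j.left, V U j)), y ∈ KI U j →
      (D.map m.left).appLE (V U j) (V U l) (hVV U m) y ∈ KI U l ∧
        (π l.left).appLE (V U l) (W U) (hWV U l) ((D.map m.left).appLE (V U j) (V U l) (hVV U m) y) =
          (π j.left).appLE (V U j) (W U) (hWV U j) y := by
    intro U j l m y hy
    refine ⟨?_, appLE_comp_apply _ _ (hπ m.left) _ _ _ _⟩
    have h1 := Ideal.mem_map_of_mem ((D.map m.left).appLE (V U j) (V U l) (hVV U m)).hom hy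
    rw [Ideal.map_map, ← CommRingCat.hom_comp, Scheme.Hom.appLE_comp_appLE,
      Groth.L19.Approx.appLE_congr_hom (show D.map m.left ≫ D.map j.hom = D.map l.hom by rw [← D.map_comp, Over.w m])] at h1
    exact h1
  have lift : ∀ (U : S) (r : Γ(c.pt, W U)), r ∈ (K.ideal U.1).map ((π i).appLE U.1.1 (W U) le_rfl).hom →
      ∃ (j : Over i) (y : Γ(D.obj j.left, V U j)), y ∈ KI U j ∧ (π j.left).appLE (V U j) (W U) (hWV U j) y = r := by
    intro U r hr
    refine Submodule.span_induction ?_ ?_ ?_ ?_ hr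
    · rintro _ ⟨k, hk, rfl⟩
      exact ⟨Over.mk (𝟙 i), (D.map (𝟙 i)).appLE U.1.1 _ le_rfl k, Ideal.mem_map_of_mem _ hk,
        appLE_comp_apply _ _ (hπ (𝟙 i)) _ _ _ _⟩
    · exact ⟨Over.mk (𝟙 i), 0, zero_mem _, map_zero _⟩
    · rintro r r' - - ⟨j, y, hy, rfl⟩ ⟨j', y', hy', rfl⟩
      obtain ⟨l, hl⟩ := IsCofiltered.inf_objs_exists ({j, j'} : Finset (Over i))
      obtain ⟨m⟩ := hl (show j ∈ ({j, j'} : Finset (Over i)) by simp)
      obtain ⟨m'⟩ := hl (show j' ∈ ({j, j'} : Finset (Over i)) by simp)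
      obtain ⟨h1, h2⟩ := push U m y hy
      obtain ⟨h1', h2'⟩ := push U m' y' hy'
      exact ⟨l, _, add_mem h1 h1', by rw [map_add, h2, h2']⟩
    · rintro a r - ⟨j, y, hy, rfl⟩
      obtain ⟨j', hj', b, hb⟩ := Groth.L19.Approx.exists_appLE_eq hc i U.1.2 a
      obtain ⟨l, hl⟩ := IsCofiltered.inf_objs_exists ({j, j'} : Finset (Over i))
      obtain ⟨m⟩ := hl (show j ∈ ({j, j'} : Finset (Over i)) by simp)
      obtain ⟨m'⟩ := hl (show j' ∈ ({j, j'} : Finset (Over i)) by simp)
      obtain ⟨h1, h2⟩ := push U m y hy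
      refine ⟨l, (D.map m'.left).appLE (V U j') (V U l) (hVV U m') b * _, Ideal.mul_mem_left _ _ h1, ?_⟩
      rw [map_mul, h2, smul_eq_mul]
      congr 1
      exact (appLE_comp_apply _ _ (hπ m'.left) _ _ (hWV U j') _).trans hb
  have key : ∀ (U : S) (s : Γ(D.obj i, U.1.1)), s ∈ J.ideal U.1 → ∃ j : Over i, ∀ (l : Over i) (_ : l ⟶ j),
      (D.map l.hom).appLE U.1.1 (V U l) le_rfl s ∈ KI U l := by
    intro U s hs
    have h0 := h ⟨W U, U.1.2.preimage _⟩
    rw [Ideals.comap_ideal (π i) J U.1 ⟨W U, U.1.2.preimage _⟩ le_rfl,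
      Ideals.comap_ideal (π i) K U.1 ⟨W U, U.1.2.preimage _⟩ le_rfl] at h0
    obtain ⟨j, y, hy, hy'⟩ := lift U _ (h0 (Ideal.mem_map_of_mem _ hs))
    have e : π j.left ⁻¹ᵁ V U j = W U := by rw [← Scheme.Hom.comp_preimage, hπ]
    have h2 : (π j.left).app (V U j) ((D.map j.hom).appLE U.1.1 (V U j) le_rfl s) =
        (π j.left).app (V U j) y := by
      have h3 : (π j.left).appLE (V U j) (W U) (hWV U j) ((D.map j.hom).appLE U.1.1 (V U j) le_rfl s) =
          (π j.left).appLE (V U j) (W U) (hWV U j) y :=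
        (appLE_comp_apply _ _ (hπ j.hom) _ _ le_rfl s).trans hy'.symm
      have e1 : ∀ z, (π j.left).app (V U j) z = c.pt.presheaf.map (homOfLE e.le).op ((π j.left).appLE (V U j) (W U) (hWV U j) z) :=
        fun z => by
          rw [← CommRingCat.comp_apply, Scheme.Hom.appLE_map, appLE_eq_app]
      rw [e1, e1, h3]
    obtain ⟨l₀, t, ht⟩ := exists_app_map_eq_map_of_isLimit D c hc (U.1.2.preimage (D.map j.hom)).isCompact _ _ h2
    let j' : Over i := Over.mk (t ≫ j.hom)
    let m : j' ⟶ j := Over.homMk t rfl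
    refine ⟨j', fun l m' => ?_⟩
    have h5 : (D.map t).appLE (V U j) (V U j') (hVV U m) ((D.map j.hom).appLE U.1.1 (V U j) le_rfl s) ∈ KI U j' := by
      have h6 := congrArg ((D.obj l₀).presheaf.map (homOfLE (hVV U m)).op) ht
      have h7 : (D.map t).appLE (V U j) (V U j') (hVV U m) ((D.map j.hom).appLE U.1.1 (V U j) le_rfl s) =
          (D.map t).appLE (V U j) (V U j') (hVV U m) y := h6
      rw [h7]
      exact (push U m y hy).1
    have h8 := (push U m' _ h5).1
    have h9 : (D.map m'.left).appLE (V U j') (V U l) (hVV U m')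
          ((D.map t).appLE (V U j) (V U j') (hVV U m) ((D.map j.hom).appLE U.1.1 (V U j) le_rfl s)) =
        (D.map l.hom).appLE U.1.1 (V U l) le_rfl s :=
      (congrArg _ (appLE_comp_apply (D.map t) (D.map j.hom) (D.map_comp t j.hom).symm (le_refl (V U j)) (hVV U m) (le_refl (V U j')) s)).trans
        (appLE_comp_apply (D.map m'.left) (D.map j'.hom) (show D.map m'.left ≫ D.map j'.hom = D.map l.hom by
          rw [← D.map_comp, Over.w m']) (le_refl (V U j')) (hVV U m') (le_refl (V U l)) s)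
    exact h9 ▸ h8
  choose G hG using fun U : S => hJ.fg U.1
  choose jk hjk using fun p : (U : S) × (G U) => key p.1 p.2.1 (hG p.1 ▸ Submodule.subset_span p.2.2)
  obtain ⟨l, hl⟩ := IsCofiltered.inf_objs_exists (insert (Over.mk (𝟙 i)) (Finset.univ.image jk))
  refine ⟨l.left, l.hom, Scheme.IdealSheafData.le_of_iSup_eq_top
    (fun U : S => (⟨V U l, U.1.2.preimage _⟩ : (D.obj l.left).affineOpens)) ?_ fun U => ?_⟩
  · rw [← Scheme.Hom.preimage_iSup, ← hcov, Scheme.Hom.preimage_top]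
  · rw [Ideals.comap_ideal (D.map l.hom) J U.1 ⟨V U l, U.1.2.preimage _⟩ le_rfl,
      Ideals.comap_ideal (D.map l.hom) K U.1 ⟨V U l, U.1.2.preimage _⟩ le_rfl, ← hG U]
    refine Ideal.map_le_iff_le_comap.2 (Submodule.span_le.2 fun s hs => ?_)
    obtain ⟨m⟩ := hl (Finset.mem_insert_of_mem (Finset.mem_image_of_mem jk (Finset.mem_univ (⟨U, ⟨s, hs⟩⟩ : (U : S) × (G U)))))
    exact hjk ⟨U, ⟨s, hs⟩⟩ l m

/-- projections of a limit with schematically dominant transition maps are schematically dominant -/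
theorem dominant_π (hc : IsLimit c) [∀ i, CompactSpace (D.obj i)] [∀ i, QuasiSeparatedSpace (D.obj i)]
    (hdom : ∀ {i j : I} (t : i ⟶ j), IsSchemeTheoreticallyDominant (D.map t)) (i : I) :
    IsSchemeTheoreticallyDominant (c.π.app i) := by
  haveI := isAffineHom_π_app D c hc i
  refine ⟨eq_bot_iff.2 fun U => ?_⟩
  rw [Scheme.Hom.ker_apply, Scheme.IdealSheafData.ideal_bot, Pi.bot_apply]
  intro s hs
  obtain ⟨j, t, ht⟩ := exists_app_map_eq_zero_of_isLimit D c hc U.2.isCompact s hs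
  haveI := hdom t
  have h1 := Scheme.Hom.ker_eq_bot (D.map t)
  have h2 : s ∈ (D.map t).ker.ideal U := by rw [Scheme.Hom.ker_apply]; exact ht
  rwa [h1, Scheme.IdealSheafData.ideal_bot, Pi.bot_apply] at h2

variable {S : Scheme.{u}} [CompactSpace S] [QuasiSeparatedSpace S]

/-- maps from a limit to a scheme of finite type factor through a stage (dominant or fp case) -/
theorem exists_factor_stage {D : I ⥤ Over S} {c : Cone D} (hc : IsLimit c)
    [∀ (i j : I) (t : i ⟶ j), IsAffineHom (D.map t).left]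
    [∀ i, CompactSpace (D.obj i).left] [∀ i, QuasiSeparatedSpace (D.obj i).left]
    (Y : Over S) [CompactSpace Y.left] [QuasiSeparatedSpace Y.left] [LocallyOfFiniteType Y.hom]
    (h : (∀ (i j : I) (t : i ⟶ j), IsSchemeTheoreticallyDominant (D.map t).left) ∨
      LocallyOfFinitePresentation Y.hom)
    (φ : c.pt ⟶ Y) : ∃ (i : I) (φi : D.obj i ⟶ Y), c.π.app i ≫ φi = φ := by
  let D' := D ⋙ Over.forget S
  let c' : Cone D' := (Over.forget S).mapCone c
  have hc' : IsLimit c' := isLimitOfPreserves _ hc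
  haveI : ∀ {i j : I} (f : i ⟶ j), IsAffineHom (D'.map f) := fun {i j} f => inferInstanceAs (IsAffineHom (D.map f).left)
  haveI : ∀ i, CompactSpace (D'.obj i) := fun i => inferInstanceAs (CompactSpace (D.obj i).left)
  haveI : ∀ i, QuasiSeparatedSpace (D'.obj i) := fun i => inferInstanceAs (QuasiSeparatedSpace (D.obj i).left)
  let t : D' ⟶ (Functor.const I).obj S :=
    { app := fun i => (D.obj i).hom
      naturality := fun i j f => (Over.w (D.map f)).trans (Category.comp_id _).symm }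
  obtain ⟨P, g, k, hg, hP, hP', hk, hkg⟩ : ∃ (P : Scheme.{u}) (g : P ⟶ S) (k : Y.left ⟶ P), LocallyOfFinitePresentation g ∧
      CompactSpace P ∧ QuasiSeparatedSpace P ∧ IsClosedImmersion k ∧ k ≫ g = Y.hom ∧
        True := by
    rcases h with h | h
    · obtain ⟨P, g, k, h1, h2, h3, h4, h5⟩ := Groth.L19.Approx.embeds_of_locallyOfFiniteType Y.hom
      exact ⟨P, g, k, h1, h2, h3, h4, h5, trivial⟩
    · exact ⟨Y.left, Y.hom, 𝟙 _, h, inferInstance, inferInstance, inferInstance, Category.id_comp _, trivial⟩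
  obtain ⟨hkg, -⟩ := hkg
  haveI := hk
  by_cases hfp : LocallyOfFinitePresentation Y.hom
  · obtain ⟨i, ψ, hψ, hψ'⟩ := Scheme.exists_π_app_comp_eq_of_locallyOfFinitePresentation D' t Y.hom c' hc' φ.left
      (by ext i; exact (Over.w (c.π.app i)).trans (Over.w φ).symm)
    exact ⟨i, Over.homMk ψ hψ', Over.OverMorphism.ext hψ⟩
  · have hdom := h.resolve_right hfp
    haveI := hg
    obtain ⟨i, ψ, hψ, hψ'⟩ := Scheme.exists_π_app_comp_eq_of_locallyOfFinitePresentation D' t g c' hc' (φ.left ≫ k)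
      (by ext i; exact ((Over.w (c.π.app i)).trans (Over.w φ).symm).trans (by rw [← hkg]; exact (Category.assoc _ _ _).symm))
    haveI := dominant_π hc' (fun {i j} f => hdom i j f) i
    have hker : k.ker ≤ ψ.ker := by
      have h1 : ψ.ker = (φ.left ≫ k).ker := by
        refine Eq.trans ?_ (congrArg Scheme.Hom.ker hψ)
        refine Eq.trans ?_ (Scheme.Hom.ker_comp (c'.π.app i) ψ).symm
        exact (Scheme.IdealSheafData.map_bot ψ).symm.trans (congrArg (Scheme.IdealSheafData.map · ψ) (c'.π.app i).ker_eq_bot.symm)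
      rw [h1]
      exact Scheme.Hom.le_ker_comp _ _
    refine ⟨i, Over.homMk (IsClosedImmersion.lift k ψ hker) ?_, Over.OverMorphism.ext ?_⟩
    · refine Eq.trans ?_ hψ'
      exact (congrArg _ hkg.symm).trans (IsClosedImmersion.lift_fac_assoc k ψ hker g)
    · refine (cancel_mono k).1 ?_
      show ((c.π.app i).left ≫ IsClosedImmersion.lift k ψ hker) ≫ k = _
      exact (Category.assoc _ _ _).trans ((congrArg _ (IsClosedImmersion.lift_fac k ψ hker)).trans hψ)

end Groth.L13.MP
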