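import Groth.Agent.L13.ModPair.AmbProd

/-! Fibre products in the localization of modulus pairs at admissible blow-ups. -/

set_option autoImplicit false

universe u

open CategoryTheory CategoryTheory.Limits AlgebraicGeometry TopologicalSpace Opposite

namespace Groth.L13.MP

open Groth.L22 ModPair

/-- the localization functor -/
noncomputable abbrev Q := (ModPair.Pair.admBlowup.{u}).Q

/-- an admissible blow-up making a given finitely generated ideal, trivial on the interior, effective Cartier -/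
theorem exists_admBlowup_effCartier (P : Pair.{u}) (C : P.total.IdealSheafData) (hC : LocFG C)
    (hle : interior P.mod ≤ interior C) :
    ∃ (P' : Pair.{u}) (s : P' ⟶ P), Pair.admBlowup s ∧ BlowUp.IsEffCartierIdeal (C.comap s.hom) := by
  obtain ⟨X', b, hb⟩ := BU.exists_isBlowUp C
  refine ⟨⟨X', P.mod.comap b, Ideals.isEffCartier_comap hb P.isEffCartier⟩, ⟨b, le_refl (P.mod.comap b)⟩,
    ⟨rfl, BU.isProper_blowUp hb fun U => hC.fg U, ?_⟩, hb.1⟩
  haveI : IsIso (b ∣_ interior C) := Ideals.isIso_restrict_compl hb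
  have h1 := (isPullback_morphismRestrict b (interior P.mod)).flip
  rw [← Scheme.homOfLE_ι P.total hle] at h1
  rw [← Scheme.homOfLE_ι X' (show b ⁻¹ᵁ interior P.mod ≤ b ⁻¹ᵁ interior C from fun x hx => hle hx)] at h1
  have h3 := IsPullback.of_right h1 (by
    rw [← cancel_mono (interior C).ι, Category.assoc, Category.assoc, morphismRestrict_ι, Scheme.homOfLE_ι,
      morphismRestrict_ι, Scheme.homOfLE_ι_assoc]) (isPullback_morphismRestrict b (interior C)).flip
  exact MorphismProperty.of_isPullback (P := MorphismProperty.isomorphisms Scheme) h3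
    (inferInstanceAs (IsIso (b ∣_ interior C)))

theorem exists_common {W X T : Pair.{u}} (α : Q.obj W ⟶ Q.obj X) (β : Q.obj W ⟶ Q.obj T) :
    ∃ (W' : Pair.{u}) (s : W' ⟶ W) (a : W' ⟶ X) (b : W' ⟶ T),
      Pair.admBlowup s ∧ Q.map s ≫ α = Q.map a ∧ Q.map s ≫ β = Q.map b := by
  haveI := hasRightCalculus.{u}
  obtain ⟨φ, hφ⟩ := Localization.exists_rightFraction Q Pair.admBlowup α
  obtain ⟨ψ, hψ⟩ := Localization.exists_rightFraction Q Pair.admBlowup β
  obtain ⟨χ, hχ⟩ := MorphismProperty.HasRightCalculusOfFractions.exists_rightFraction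
    (MorphismProperty.LeftFraction.mk φ.s ψ.s ψ.hs)
  refine ⟨χ.X', χ.s ≫ φ.s, χ.s ≫ φ.f, χ.f ≫ ψ.f, isAdmBlowup_comp χ.hs φ.hs, ?_, ?_⟩
  · rw [hφ]; simp
  · rw [hψ, show χ.s ≫ φ.s = χ.f ≫ ψ.s from hχ]; simp

theorem exists_precomp {W X : Pair.{u}} {a b : W ⟶ X} (h : Q.map a = Q.map b) :
    ∃ (W' : Pair.{u}) (t : W' ⟶ W), Pair.admBlowup t ∧ t ≫ a = t ≫ b := by
  haveI := hasRightCalculus.{u}
  obtain ⟨W', t, ht, h'⟩ := (MorphismProperty.map_eq_iff_precomp Q Pair.admBlowup a b).1 h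
  exact ⟨W', t, ht, h'⟩

theorem isIso_Q {W W' : Pair.{u}} {s : W' ⟶ W} (hs : Pair.admBlowup s) : IsIso (Q.map s) :=
  Localization.inverts Q Pair.admBlowup s hs

theorem isPullback_ambProd (P T X : Pair.{u}) (f : X ⟶ P) (g : T ⟶ P)
    {Y : Scheme.{u}} (π : Y ⟶ mprod f.hom g.hom X.mod T.mod) (K : Y.IdealSheafData)
    (hY : IsAmbProd f.hom g.hom X.mod T.mod π K) (hK : BlowUp.IsEffCartierIdeal K)
    (pX : Pair.mk Y K hK ⟶ X) (pT : Pair.mk Y K hK ⟶ T) (hpX : pX.hom = pr1 f.hom g.hom X.mod T.mod π)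
    (hpT : pT.hom = pr2 f.hom g.hom X.mod T.mod π) :
    IsPullback (Q.map pT) (Q.map pX) (Q.map g) (Q.map f) := by
  have hw : pT ≫ g = pX ≫ f := by
    apply Pair.Hom.ext
    show pT.hom ≫ g.hom = pX.hom ≫ f.hom
    rw [hpX, hpT]
    simp [pr1, pr2, pullback.condition]
  have key : ∀ (W : Pair.{u}) (γ δ : Q.obj W ⟶ Q.obj (Pair.mk Y K hK)),
      γ ≫ Q.map pX = δ ≫ Q.map pX → γ ≫ Q.map pT = δ ≫ Q.map pT → γ = δ := by
    intro W γ δ hX hT
    obtain ⟨W₁, s, c, d, hs, hc, hd⟩ := exists_common γ δ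
    haveI := isIso_Q hs
    obtain ⟨W₂, t, ht, htX⟩ := exists_precomp (a := c ≫ pX) (b := d ≫ pX)
      (by rw [Functor.map_comp, Functor.map_comp, ← hc, ← hd, Category.assoc, Category.assoc, hX])
    obtain ⟨W₃, t', ht', htT⟩ := exists_precomp (a := (t ≫ c) ≫ pT) (b := (t ≫ d) ≫ pT)
      (by simp only [Functor.map_comp, ← hc, ← hd, Category.assoc, hT])
    have h1 := congrArg (t' ≫ ·) htX
    haveI := isIso_Q ht
    haveI := isIso_Q ht'
    have heq : t' ≫ t ≫ c = t' ≫ t ≫ d := by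
      let c' := t' ≫ t ≫ c
      let d' := t' ≫ t ≫ d
      show c' = d'
      have eX : d'.hom ≫ pr1 f.hom g.hom X.mod T.mod π = (c' ≫ pX).hom := by
        rw [show c' ≫ pX = d' ≫ pX by simpa [c', d'] using h1, ← hpX]; rfl
      have eT : d'.hom ≫ pr2 f.hom g.hom X.mod T.mod π = (c' ≫ pT).hom := by
        rw [show c' ≫ pT = d' ≫ pT by simpa [c', d'] using htT, ← hpT]; rfl
      have eX' : c'.hom ≫ pr1 f.hom g.hom X.mod T.mod π = (c' ≫ pX).hom := by rw [← hpX]; rfl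
      have eT' : c'.hom ≫ pr2 f.hom g.hom X.mod T.mod π = (c' ≫ pT).hom := by rw [← hpT]; rfl
      have hE : BlowUp.IsEffCartierIdeal (X.mod.comap (c' ≫ pX).hom ⊔ T.mod.comap (c' ≫ pT).hom) := by
        haveI := quasiCompact_interior W₃.isEffCartier
        haveI := dominant_interior W₃.isEffCartier
        have := isEffCartier_comap c'.hom (isEffCartier_exc hY.1) (W := interior W₃.mod)
          ((ambient_interior_le c'.cond).trans fun x hx => interior_mono
            ((ambProd_ambient_fst hY).trans le_sup_left) hx)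
        rwa [Scheme.IdealSheafData.comap_sup, ← Scheme.IdealSheafData.comap_comp, ← Scheme.IdealSheafData.comap_comp,
          eX', eT'] at this
      exact Pair.Hom.ext ((ambProd_lift hY W₃.isEffCartier _ _ (c' ≫ pX).cond (c' ≫ pT).cond
        (by rw [← eX', ← eT']; simp [pr1, pr2, pullback.condition]) hE).1.unique ⟨eX', eT'⟩ ⟨eX, eT⟩)
    have h2 := congrArg (fun a => Q.map a) heq
    simp only [Functor.map_comp, ← hc, ← hd, cancel_epi] at h2
    exact h2
  have ex : ∀ (W : Pair.{u}) (β : Q.obj W ⟶ Q.obj T) (α : Q.obj W ⟶ Q.obj X), β ≫ Q.map g = α ≫ Q.map f →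
      ∃ γ : Q.obj W ⟶ Q.obj (Pair.mk Y K hK), γ ≫ Q.map pT = β ∧ γ ≫ Q.map pX = α := by
    intro W β α h
    obtain ⟨W₁, s, b, a, hs, hb, ha⟩ := exists_common α β
    haveI := isIso_Q hs
    obtain ⟨W₂, t, ht, htP⟩ := exists_precomp (a := a ≫ g) (b := b ≫ f)
      (by rw [Functor.map_comp, Functor.map_comp, ← ha, ← hb, Category.assoc, Category.assoc, h])
    haveI := isIso_Q ht
    obtain ⟨W₃, t', ht', hE⟩ := exists_admBlowup_effCartier W₂
      (X.mod.comap (t ≫ b).hom ⊔ T.mod.comap (t ≫ a).hom)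
      (((LocFG.of_isEffCartier X.isEffCartier).comap _).sup ((LocFG.of_isEffCartier T.isEffCartier).comap _))
      (interior_mono ((show W₂.mod ≤ _ from (t ≫ b).cond).trans le_sup_left))
    haveI := isIso_Q ht'
    rw [Scheme.IdealSheafData.comap_sup, ← Scheme.IdealSheafData.comap_comp,
      ← Scheme.IdealSheafData.comap_comp] at hE
    have hsq : (t' ≫ t ≫ b).hom ≫ f.hom = (t' ≫ t ≫ a).hom ≫ g.hom := by
      show ((t' ≫ t ≫ b) ≫ f).hom = ((t' ≫ t ≫ a) ≫ g).hom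
      simp only [Category.assoc, htP]
    obtain ⟨⟨φ, ⟨hφX, hφT⟩, -⟩, hamb⟩ := ambProd_lift hY W₃.isEffCartier _ _ (t' ≫ t ≫ b).cond (t' ≫ t ≫ a).cond hsq hE
    let c : W₃ ⟶ Pair.mk Y K hK := ⟨φ, hamb φ ⟨hφX, hφT⟩⟩
    refine ⟨inv (Q.map t' ≫ Q.map t ≫ Q.map s) ≫ Q.map c, ?_, ?_⟩
    · rw [Category.assoc, IsIso.inv_comp_eq, ← Functor.map_comp,
        show c ≫ pT = t' ≫ t ≫ a from Pair.Hom.ext ((congrArg (φ ≫ ·) hpT).trans hφT)]
      simp [ha]
    · rw [Category.assoc, IsIso.inv_comp_eq, ← Functor.map_comp,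
        show c ≫ pX = t' ≫ t ≫ b from Pair.Hom.ext ((congrArg (φ ≫ ·) hpX).trans hφX)]
      simp [hb]
  haveI : Q.EssSurj := Localization.essSurj Q Pair.admBlowup.{u}
  have hww : Q.map pT ≫ Q.map g = Q.map pX ≫ Q.map f := by rw [← Functor.map_comp, hw, Functor.map_comp]
  have ex' : ∀ s : PullbackCone (Q.map g) (Q.map f),
      ∃ γ : s.pt ⟶ Q.obj (Pair.mk Y K hK), γ ≫ Q.map pT = s.fst ∧ γ ≫ Q.map pX = s.snd := fun s => by
    let e := Q.objObjPreimageIso s.pt
    obtain ⟨γ, h1, h2⟩ := ex _ (e.hom ≫ s.fst) (e.hom ≫ s.snd) (by simp [s.condition])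
    exact ⟨e.inv ≫ γ, by simp [h1], by simp [h2]⟩
  refine ⟨⟨hww⟩, ⟨PullbackCone.IsLimit.mk _ (fun s => (ex' s).choose) (fun s => (ex' s).choose_spec.1)
    (fun s => (ex' s).choose_spec.2) fun s m h1 h2 => ?_⟩⟩
  let e := Q.objObjPreimageIso s.pt
  rw [← cancel_epi e.hom]
  refine key _ _ _ ?_ ?_
  · simp only [Category.assoc, h2, (ex' s).choose_spec.2]
  · simp only [Category.assoc, h1, (ex' s).choose_spec.1]

theorem hasPullbacks : HasPullbacks (Pair.admBlowup.{u}).Localization := by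
  suffices h : ∀ {A B C : (Pair.admBlowup.{u}).Localization} (α : A ⟶ C) (β : B ⟶ C), HasLimit (cospan α β) from
    haveI : ∀ {A B C : (Pair.admBlowup.{u}).Localization} {α : A ⟶ C} {β : B ⟶ C}, HasLimit (cospan α β) := h _ _
    hasPullbacks_of_hasLimit_cospan _
  intro A B C α β
  haveI : Q.EssSurj := Localization.essSurj Q Pair.admBlowup.{u}
  let eA := Q.objObjPreimageIso A
  let eB := Q.objObjPreimageIso B
  let eC := Q.objObjPreimageIso C
  obtain ⟨A', sA, a, -, hsA, ha, -⟩ := exists_common (eA.hom ≫ α ≫ eC.inv) (𝟙 _)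
  obtain ⟨B', sB, b, -, hsB, hb, -⟩ := exists_common (eB.hom ≫ β ≫ eC.inv) (𝟙 _)
  haveI := isIso_Q hsA
  haveI := isIso_Q hsB
  obtain ⟨Y, π, K, hY⟩ := exists_ambProd A'.isEffCartier B'.isEffCartier a.hom b.hom
  have hp := isPullback_ambProd _ _ _ a b π K hY (ambProd_effCartier A'.isEffCartier B'.isEffCartier hY)
    ⟨_, ambProd_ambient_fst hY⟩ ⟨_, ambProd_ambient_snd hY⟩ rfl rfl
  haveI : HasLimit (cospan (Q.map a) (Q.map b)) := hp.flip.hasPullback
  exact hasLimit_of_iso (F := cospan (Q.map a) (Q.map b)) (cospanExt ((asIso (Q.map sA)) ≪≫ eA) ((asIso (Q.map sB)) ≪≫ eB) eC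
    (by simp [← ha]) (by simp [← hb]))

theorem hasTerminal : HasTerminal (Pair.admBlowup.{u}).Localization := by
  haveI : Q.EssSurj := Localization.essSurj Q Pair.admBlowup.{u}
  let O : Pair.{u} := ⟨Spec (CommRingCat.of (ULift.{u} ℤ)), ⊤, Ideals.isEffCartier_top⟩
  let t : ∀ W : Pair.{u}, W ⟶ O := fun W =>
    ⟨specULiftZIsTerminal.from W.total, by show _ ≤ _; rw [Scheme.IdealSheafData.comap_top]; exact le_top⟩
  have hex : ∀ A, Nonempty (A ⟶ Q.obj O) := fun A =>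
    ⟨(Q.objObjPreimageIso A).inv ≫ Q.map (t _)⟩
  haveI : ∀ A, Nonempty (A ⟶ Q.obj O) := hex
  haveI : ∀ A, Subsingleton (A ⟶ Q.obj O) := fun A => ⟨fun γ δ => by
    let e := Q.objObjPreimageIso A
    obtain ⟨W, s, c, d, hs, hc, hd⟩ := exists_common (e.hom ≫ γ) (e.hom ≫ δ)
    haveI := isIso_Q hs
    have hcd : c = d := Pair.Hom.ext (specULiftZIsTerminal.hom_ext _ _)
    rw [← cancel_epi e.hom, ← cancel_epi (Q.map s), hc, hd, hcd]⟩
  haveI : ∀ A, Unique (A ⟶ Q.obj O) := fun A => Classical.choice ⟨uniqueOfSubsingleton (Classical.choice (hex A))⟩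
  exact hasTerminal_of_unique (Q.obj O)

end Groth.L13.MP
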