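import Groth.Agent.L13.ModPair.Product
import Groth.Agent.L13.ModPair.Colon
import Groth.Agent.L13.BlowUp.Exists
import Groth.Agent.L13.BlowUp.Proper

/-! The ambient product of modulus pairs. -/

set_option autoImplicit false

universe u

open CategoryTheory CategoryTheory.Limits AlgebraicGeometry TopologicalSpace Opposite

namespace Groth.L13.MP

open Groth.L22

theorem sup_eq_add {X : Scheme.{u}} (I J : X.IdealSheafData) : I ⊔ J = I + J := rfl

variable {S T X Y : Scheme.{u}} (f : X ⟶ S) (g : T ⟶ S) (IX : X.IdealSheafData) (IT : T.IdealSheafData)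

/-- first projection of the product -/
noncomputable abbrev pr1 (π : Y ⟶ ModPair.mprod f g IX IT) : Y ⟶ X :=
  π ≫ ModPair.mprodι f g IX IT ≫ pullback.fst f g

/-- second projection of the product -/
noncomputable abbrev pr2 (π : Y ⟶ ModPair.mprod f g IX IT) : Y ⟶ T :=
  π ≫ ModPair.mprodι f g IX IT ≫ pullback.snd f g

theorem centre_comap (π : Y ⟶ ModPair.mprod f g IX IT) :
    (ModPair.prodCentre f g IX IT).comap π = IX.comap (pr1 f g IX IT π) ⊔ IT.comap (pr2 f g IX IT π) := by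
  rw [ModPair.prodCentre, Scheme.IdealSheafData.comap_sup, ← Scheme.IdealSheafData.comap_comp,
    ← Scheme.IdealSheafData.comap_comp]

theorem locFG_centre (hX : BlowUp.IsEffCartierIdeal IX) (hT : BlowUp.IsEffCartierIdeal IT) :
    LocFG (ModPair.prodCentre f g IX IT) :=
  ((LocFG.of_isEffCartier hX).comap _).sup ((LocFG.of_isEffCartier hT).comap _)

variable {f g IX IT} {π : Y ⟶ ModPair.mprod f g IX IT} {K : Y.IdealSheafData}

theorem ambProd_mul (hY : ModPair.IsAmbProd f g IX IT π K) :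
    K * (IX.comap (pr1 f g IX IT π) ⊔ IT.comap (pr2 f g IX IT π)) =
      IX.comap (pr1 f g IX IT π) * IT.comap (pr2 f g IX IT π) := by
  have := hY.2
  rw [centre_comap, ← Scheme.IdealSheafData.comap_comp, ← Scheme.IdealSheafData.comap_comp] at this
  exact this

theorem isEffCartier_exc (hb : BlowUp.IsBlowUp π (ModPair.prodCentre f g IX IT)) :
    BlowUp.IsEffCartierIdeal (IX.comap (pr1 f g IX IT π) ⊔ IT.comap (pr2 f g IX IT π)) := by
  rw [← centre_comap]; exact hb.1

theorem isEffCartier_prod_pr (hX : BlowUp.IsEffCartierIdeal IX) (hT : BlowUp.IsEffCartierIdeal IT)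
    (hb : BlowUp.IsBlowUp π (ModPair.prodCentre f g IX IT)) :
    BlowUp.IsEffCartierIdeal (IX.comap (pr1 f g IX IT π) * IT.comap (pr2 f g IX IT π)) := by
  rw [show IX.comap (pr1 f g IX IT π) = (IX.comap (ModPair.mprodι f g IX IT ≫ pullback.fst f g)).comap π from
      Scheme.IdealSheafData.comap_comp _ _ _,
    show IT.comap (pr2 f g IX IT π) = (IT.comap (ModPair.mprodι f g IX IT ≫ pullback.snd f g)).comap π from
      Scheme.IdealSheafData.comap_comp _ _ _]
  exact Ideals.isEffCartier_mul (Ideals.isEffCartier_comap hb (isEffCartier_fst f g hX hT))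
    (Ideals.isEffCartier_comap hb (isEffCartier_snd f g hX hT))

theorem ambProd_effCartier (hX : BlowUp.IsEffCartierIdeal IX) (hT : BlowUp.IsEffCartierIdeal IT)
    (hY : ModPair.IsAmbProd f g IX IT π K) : BlowUp.IsEffCartierIdeal K :=
  Ideals.isEffCartier_left_of_mul (ambProd_mul hY ▸ isEffCartier_prod_pr hX hT hY.1)

theorem ambProd_ambient_fst (hY : ModPair.IsAmbProd f g IX IT π K) :
    ModPair.IsAmbient K IX (pr1 f g IX IT π) := by
  refine le_of_mul_le (isEffCartier_exc hY.1) ?_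
  rw [ambProd_mul hY]
  exact mul_mono' le_rfl le_sup_right

theorem ambProd_ambient_snd (hY : ModPair.IsAmbProd f g IX IT π K) :
    ModPair.IsAmbient K IT (pr2 f g IX IT π) := by
  refine le_of_mul_le (isEffCartier_exc hY.1) ?_
  rw [ambProd_mul hY, mul_comm (IX.comap _)]
  exact mul_mono' le_rfl le_sup_left

theorem ambProd_interior (hY : ModPair.IsAmbProd f g IX IT π K) :
    ModPair.interior K = (π ≫ ModPair.mprodι f g IX IT) ⁻¹ᵁ ModPair.prodInterior f g IX IT := by
  refine le_antisymm ?_ ?_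
  · intro x hx
    exact ⟨ambient_interior_le (ambProd_ambient_fst hY) hx, ambient_interior_le (ambProd_ambient_snd hY) hx⟩
  · intro x hx
    have h : x ∈ ModPair.interior (IX.comap (pr1 f g IX IT π) * IT.comap (pr2 f g IX IT π)) := by
      rw [interior_mul, interior_comap, interior_comap]
      exact ⟨hx.1, hx.2⟩
    rw [← ambProd_mul hY, interior_mul] at h
    exact h.1

theorem exists_ambProd (hX : BlowUp.IsEffCartierIdeal IX) (hT : BlowUp.IsEffCartierIdeal IT) (f : X ⟶ S) (g : T ⟶ S) :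
    ∃ (Y : Scheme.{u}) (π : Y ⟶ ModPair.mprod f g IX IT) (K : Y.IdealSheafData),
      ModPair.IsAmbProd f g IX IT π K := by
  obtain ⟨Y, π, hπ⟩ := BU.exists_isBlowUp (ModPair.prodCentre f g IX IT)
  refine ⟨Y, π, colon ((IX.comap (ModPair.mprodι f g IX IT ≫ pullback.fst f g)).comap π *
      (IT.comap (ModPair.mprodι f g IX IT ≫ pullback.snd f g)).comap π) (LocFG.of_isEffCartier hπ.1), hπ, ?_⟩
  exact colon_mul hπ.1 (le_trans (mul_le_left _ _) (by rw [← Scheme.IdealSheafData.comap_comp, centre_comap]; exact le_sup_left))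

theorem isProper_ambProd (hX : BlowUp.IsEffCartierIdeal IX) (hT : BlowUp.IsEffCartierIdeal IT)
    (hb : BlowUp.IsBlowUp π (ModPair.prodCentre f g IX IT)) : IsProper π :=
  BU.isProper_blowUp hb fun U => (locFG_centre f g IX IT hX hT).fg U

/-- the universal property of the ambient product among pairs on which the intersection is a divisor -/
theorem ambProd_lift (hY : ModPair.IsAmbProd f g IX IT π K) {W : Scheme.{u}} {IW : W.IdealSheafData}
    (hW : BlowUp.IsEffCartierIdeal IW)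
    (b : W ⟶ X) (a : W ⟶ T) (hb : ModPair.IsAmbient IW IX b) (ha : ModPair.IsAmbient IW IT a) (h : b ≫ f = a ≫ g)
    (hE : BlowUp.IsEffCartierIdeal (IX.comap b ⊔ IT.comap a)) :
    (∃! φ : W ⟶ Y, φ ≫ pr1 f g IX IT π = b ∧ φ ≫ pr2 f g IX IT π = a) ∧
      ∀ φ : W ⟶ Y, φ ≫ pr1 f g IX IT π = b ∧ φ ≫ pr2 f g IX IT π = a → ModPair.IsAmbient IW K φ := by
  obtain ⟨c, ⟨hc1, hc2⟩, hcu⟩ := existsUnique_lift f g hW b a hb ha h
  have hE' : BlowUp.IsEffCartierIdeal ((ModPair.prodCentre f g IX IT).comap c) := by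
    rwa [centre_comap, show pr1 f g IX IT c = b from hc1, show pr2 f g IX IT c = a from hc2]
  obtain ⟨φ, hφ, hφu⟩ := hY.1.2 W c hE'
  have hb' : ∀ ψ : W ⟶ Y, ψ ≫ pr1 f g IX IT π = b ∧ ψ ≫ pr2 f g IX IT π = a → ψ ≫ π = c := fun ψ hψ =>
    hcu (ψ ≫ π) ⟨by rw [Category.assoc]; exact hψ.1, by rw [Category.assoc]; exact hψ.2⟩
  refine ⟨⟨φ, ⟨?_, ?_⟩, fun ψ hψ => hφu ψ (hb' ψ hψ)⟩, fun ψ hψ => ?_⟩
  · show φ ≫ π ≫ _ = b
    rw [reassoc_of% hφ]; exact hc1
  · show φ ≫ π ≫ _ = a
    rw [reassoc_of% hφ]; exact hc2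
  · have hK := congrArg (Scheme.IdealSheafData.comap · ψ) (ambProd_mul hY)
    simp only [Ideals.comap_mul, Scheme.IdealSheafData.comap_sup, ← Scheme.IdealSheafData.comap_comp, hψ.1, hψ.2] at hK
    refine le_of_mul_le hE ?_
    rw [hK, sup_eq_add, mul_add, ← sup_eq_add]
    exact sup_le (by rw [mul_comm IW]; exact mul_mono' le_rfl ha) (mul_mono' hb le_rfl)

end Groth.L13.MP
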