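import Groth.Agent.L13.ModPair.Basic
import Mathlib.RingTheory.Ideal.MinimalPrime.Localization
import Mathlib.RingTheory.Spectrum.Prime.Topology

/-! Closures of closed subschemes of the interior of a modulus pair. -/

set_option autoImplicit false

universe u

open CategoryTheory CategoryTheory.Limits AlgebraicGeometry TopologicalSpace Opposite

namespace Groth.L13.MP

open Groth.L22

variable {S V : Scheme.{u}}

/-- every point specialises from a point of the interior -/
theorem exists_interior_specializes {I : S.IdealSheafData} (hI : BlowUp.IsEffCartierIdeal I) (s : S) :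
    ∃ u : S, u ∈ ModPair.interior I ∧ u ⤳ s := by
  obtain ⟨U, hsU, g, hg, hgI, -⟩ := Ideals.exists_generator hI s
  obtain ⟨P, hP, hle⟩ := Ideal.exists_minimalPrimes_le (I := ⊥) (J := (U.2.primeIdealOf ⟨s, hsU⟩).asIdeal) bot_le
  haveI : P.IsPrime := hP.1.1
  have hgP : g ∉ P := fun h =>
    Set.disjoint_left.1 (Ideal.disjoint_nonZeroDivisors_of_mem_minimalPrimes hP) h hg
  refine ⟨U.2.fromSpec ⟨P, inferInstance⟩, ?_, ?_⟩
  · have h1 : (⟨P, inferInstance⟩ : PrimeSpectrum Γ(S, U.1)) ∈ U.2.fromSpec ⁻¹ᵁ S.basicOpen g := by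
      rw [U.2.fromSpec_preimage_basicOpen]; exact hgP
    have h2 : U.2.fromSpec ⟨P, inferInstance⟩ ∈ S.basicOpen g := h1
    rw [← interior_inf_eq_basicOpen hgI] at h2
    exact h2.2
  · have h3 : (⟨P, inferInstance⟩ : PrimeSpectrum Γ(S, U.1)) ⤳ U.2.primeIdealOf ⟨s, hsU⟩ :=
      (PrimeSpectrum.le_iff_specializes _ _).1 hle
    have h4 := h3.map U.2.fromSpec.continuous
    rwa [U.2.fromSpec_primeIdealOf ⟨s, hsU⟩] at h4

theorem quasiCompact_closure {I : S.IdealSheafData} (hI : BlowUp.IsEffCartierIdeal I)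
    (h : V ⟶ (ModPair.interior I : Scheme.{u})) [IsClosedImmersion h] :
    QuasiCompact (h ≫ (ModPair.interior I).ι) := by
  haveI := quasiCompact_interior hI
  infer_instance

theorem range_imageι_eq {Y : Scheme.{u}} (f : V ⟶ Y) [QuasiCompact f] :
    Set.range f.imageι = closure (Set.range f) := by
  rw [← Scheme.Hom.support_ker f, Scheme.IdealSheafData.range_subschemeι]

/-- the interior of the closure of a closed subscheme of the interior -/
theorem closure_interior {I : S.IdealSheafData} (hI : BlowUp.IsEffCartierIdeal I)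
    (h : V ⟶ (ModPair.interior I : Scheme.{u})) [IsClosedImmersion h] :
    IsOpenImmersion (h ≫ (ModPair.interior I).ι).toImage ∧
      Set.range (h ≫ (ModPair.interior I).ι).toImage.base =
        (h ≫ (ModPair.interior I).ι).imageι.base ⁻¹' (ModPair.interior I : Set S) := by
  haveI := quasiCompact_closure hI h
  set φ := h ≫ (ModPair.interior I).ι with hφ
  set Q := φ.imageι ⁻¹ᵁ (ModPair.interior I) with hQ
  haveI := dominant_toImage φ
  have hr : Set.range φ.toImage ⊆ Set.range Q.ι := by
    rintro _ ⟨v, rfl⟩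
    rw [Scheme.Opens.range_ι]
    show φ.imageι (φ.toImage v) ∈ (ModPair.interior I)
    rw [← Scheme.Hom.comp_apply, Scheme.Hom.toImage_imageι, hφ, Scheme.Hom.comp_apply]
    exact (h v).2
  set T := IsOpenImmersion.lift Q.ι φ.toImage hr with hT
  have hTQ : T ≫ Q.ι = φ.toImage := IsOpenImmersion.lift_fac _ _ _
  have hTh : T ≫ (φ.imageι ∣_ (ModPair.interior I)) = h := by
    rw [← cancel_mono (ModPair.interior I).ι, Category.assoc, morphismRestrict_ι, ← Category.assoc, hTQ,
      Scheme.Hom.toImage_imageι]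
  have hpb : IsPullback (𝟙 V) T φ.toImage Q.ι :=
    ⟨⟨by rw [Category.id_comp, hTQ]⟩, ⟨PullbackCone.IsLimit.mk _ (fun s => s.fst)
      (fun s => Category.comp_id _)
      (fun s => by rw [← cancel_mono Q.ι, Category.assoc, hTQ, s.condition])
      (fun s m h1 _ => (Category.comp_id m).symm.trans h1)⟩⟩
  haveI : IsSchemeTheoreticallyDominant T := IsSchemeTheoreticallyDominant.of_isPullback hpb
  haveI : IsClosedImmersion (T ≫ (φ.imageι ∣_ (ModPair.interior I))) := by rw [hTh]; infer_instance
  haveI : IsClosedImmersion T := IsClosedImmersion.of_comp T (φ.imageι ∣_ (ModPair.interior I))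
  haveI : IsIso T := IsClosedImmersion.isIso_iff_ker_eq_bot.2 (Scheme.Hom.ker_eq_bot T)
  refine ⟨hTQ ▸ inferInstance, ?_⟩
  show Set.range φ.toImage = _
  rw [← hTQ, Scheme.Hom.comp_base, TopCat.coe_comp,
    (Scheme.Hom.surjective T).range_comp, Scheme.Opens.range_ι]
  rfl

theorem closure_cover {I : S.IdealSheafData} (hI : BlowUp.IsEffCartierIdeal I) {ι : Type u}
    (V : ι → Scheme.{u}) (g : ∀ i, V i ⟶ (ModPair.interior I : Scheme.{u}))
    [∀ i, IsClosedImmersion (g i)]
    (hsurj : ∀ u : (ModPair.interior I : Scheme.{u}), ∃ (i : ι) (v : V i), (g i).base v = u) :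
    (∀ s : S, ∃ (i : ι) (v : (g i ≫ (ModPair.interior I).ι).image),
        (g i ≫ (ModPair.interior I).ι).imageι.base v = s) ∧
      (∀ i, BlowUp.IsEffCartierIdeal (I.comap (g i ≫ (ModPair.interior I).ι).imageι)) ∧
      ∀ i, IsOpenImmersion (g i ≫ (ModPair.interior I).ι).toImage ∧
        Set.range (g i ≫ (ModPair.interior I).ι).toImage.base =
          (g i ≫ (ModPair.interior I).ι).imageι.base ⁻¹' (ModPair.interior I : Set S) := by
  refine ⟨fun s => ?_, fun i => ?_, fun i => closure_interior hI (g i)⟩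
  · obtain ⟨u, hu, hus⟩ := exists_interior_specializes hI s
    obtain ⟨i, v, hv⟩ := hsurj ⟨u, hu⟩
    haveI := quasiCompact_closure hI (g i)
    have hs : s ∈ Set.range (g i ≫ (ModPair.interior I).ι).imageι := by
      rw [range_imageι_eq]
      refine hus.mem_closed isClosed_closure (subset_closure ⟨v, ?_⟩)
      rw [Scheme.Hom.comp_apply]
      exact congrArg Subtype.val hv
    obtain ⟨z, hz⟩ := hs
    exact ⟨i, z, hz⟩
  · haveI := quasiCompact_closure hI (g i)
    set φ := g i ≫ (ModPair.interior I).ι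
    haveI := (closure_interior hI (g i)).1
    haveI := dominant_toImage φ
    haveI : QuasiCompact (φ.imageι ⁻¹ᵁ ModPair.interior I).ι :=
      quasiCompact_preimage _ (quasiCompact_interior hI)
    haveI : IsSchemeTheoreticallyDominant (φ.imageι ⁻¹ᵁ ModPair.interior I).ι := by
      have hr : Set.range φ.toImage = Set.range (φ.imageι ⁻¹ᵁ ModPair.interior I).ι := by
        rw [Scheme.Opens.range_ι]; exact (closure_interior hI (g i)).2
      refine ⟨?_⟩
      rw [← IsOpenImmersion.isoOfRangeEq_inv_fac _ _ hr, Scheme.Hom.ker_comp_of_isIso, Scheme.Hom.ker_eq_bot]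
    exact isEffCartier_comap φ.imageι hI le_rfl

end Groth.L13.MP
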