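import Groth.Agent.L13.ModPair.Localized
import Mathlib.AlgebraicGeometry.Limits
import Mathlib.CategoryTheory.Limits.Preserves.Shapes.Products

/-! Coproducts of modulus pairs. -/

set_option autoImplicit false

universe v u

open CategoryTheory CategoryTheory.Limits AlgebraicGeometry TopologicalSpace Opposite

namespace Groth.L13.MP

open Groth.L22 ModPair

variable {X Y : Scheme.{u}}

/-- ideal sheaves are compared on an open cover -/
theorem le_of_cover {I J : X.IdealSheafData} {σ : Type v} {U : σ → Scheme.{u}} (j : ∀ i, U i ⟶ X)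
    [∀ i, IsOpenImmersion (j i)] (hcov : ∀ x, ∃ i y, j i y = x) (h : ∀ i, I.comap (j i) ≤ J.comap (j i)) : I ≤ J := by
  choose i y hy using hcov
  choose V hV using fun x : X =>
    show ∃ V : (U (i x)).affineOpens, y x ∈ V.1 from by
      obtain ⟨_, ⟨W, hW, rfl⟩, hxW, -⟩ :=
        (U (i x)).isBasis_affineOpens.exists_subset_of_mem_open (Set.mem_univ (y x)) isOpen_univ
      exact ⟨⟨W, hW⟩, hxW⟩
  refine Scheme.IdealSheafData.le_of_iSup_eq_top
    (fun x => (⟨j (i x) ''ᵁ (V x).1, (V x).2.image_of_isOpenImmersion (j (i x))⟩ : X.affineOpens))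
    (eq_top_iff.2 fun x _ => Opens.mem_iSup.2 ⟨x, ⟨y x, hV x, hy x⟩⟩) fun x => ?_
  have h1 := h (i x) (V x)
  rw [Scheme.IdealSheafData.ideal_comap_of_isOpenImmersion,
    Scheme.IdealSheafData.ideal_comap_of_isOpenImmersion] at h1
  exact (Ideal.comap_le_comap_iff_of_surjective _ ((j (i x)).appIso (V x).1).symm.commRingCatIsoToRingEquiv.surjective _ _).1 h1

theorem isIso_restrict_openImmersion (ι : X ⟶ Y) [IsOpenImmersion ι] (W : Y.Opens) (hW : W ≤ ι.opensRange) :
    IsIso (ι ∣_ W) := by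
  haveI : Surjective (ι ∣_ W) := ⟨fun w => by
    obtain ⟨x, hx⟩ := hW w.2
    exact ⟨⟨x, show ι x ∈ W by rw [hx]; exact w.2⟩, Subtype.ext ((morphismRestrict_base_coe ι W _).trans hx)⟩⟩
  exact isIso_of_isOpenImmersion_of_opensRange_eq_top _ (Opens.ext (ι ∣_ W).surjective.range_eq)

/-- a property of a restriction can be checked inside charts -/
theorem restrict_of_chart (Q : MorphismProperty Scheme.{u}) [Q.RespectsIso] {X' Y' : Scheme.{u}} {s : X' ⟶ Y'}
    {ι' : X' ⟶ X} {ι : Y' ⟶ Y} [IsOpenImmersion ι'] [IsOpenImmersion ι] {t : X ⟶ Y} (h : ι' ≫ t = s ≫ ι)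
    (W : Y.Opens) (hW : W ≤ ι.opensRange) (hW' : t ⁻¹ᵁ W ≤ ι'.opensRange) (hs : Q (s ∣_ (ι ⁻¹ᵁ W))) :
    Q (t ∣_ W) := by
  haveI := isIso_restrict_openImmersion ι W hW
  haveI := isIso_restrict_openImmersion ι' _ hW'
  have h1 : Q ((ι' ≫ t) ∣_ W) := by
    rw [h, morphismRestrict_comp]
    exact (Q.cancel_right_of_respectsIso _ _).2 hs
  rw [morphismRestrict_comp] at h1
  exact (@MorphismProperty.cancel_left_of_respectsIso _ _ Q _ _ _ _ (ι' ∣_ (t ⁻¹ᵁ W)) (t ∣_ W) (isIso_restrict_openImmersion ι' _ hW')).1 h1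

theorem isIso_restrict_of_isPullback {X' Y' : Scheme.{u}} {s' : X' ⟶ Y'} {j' : X' ⟶ X} {j : Y' ⟶ Y} {s : X ⟶ Y}
    (h : IsPullback s' j' j s) (U : Y.Opens) [IsIso (s ∣_ U)] : IsIso (s' ∣_ (j ⁻¹ᵁ U)) := by
  have h1 := isIso_snd_restrict s j U (j ⁻¹ᵁ U) le_rfl
  rw [← h.flip.isoPullback_hom_snd, morphismRestrict_comp]
  exact IsIso.comp_isIso' (isIso_restrict_openImmersion _ _ (by rw [Scheme.Hom.opensRange_of_isIso]; exact le_top)) h1

variable {σ : Type v} {A : σ → Pair.{u}} {P : Pair.{u}}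

/-- a decomposition of a modulus pair into open and closed pieces -/
structure IsDecomp (ι : ∀ i, A i ⟶ P) : Prop where
  isOpen : ∀ i, IsOpenImmersion (ι i).hom
  cover : ∀ x : P.total, ∃ i y, (ι i).hom y = x
  disj : ∀ i j x y, (ι i).hom x = (ι j).hom y → i = j
  minimal : ∀ i, (A i).mod = P.mod.comap (ι i).hom

variable {ι : ∀ i, A i ⟶ P}

theorem IsDecomp.isColimit_scheme [Small.{u} σ] (d : IsDecomp ι) :
    Nonempty (IsColimit (Cofan.mk P.total fun i => (ι i).hom)) := by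
  haveI := d.isOpen
  refine nonempty_isColimit_cofanMk_of _ (eq_top_iff.2 fun x _ => ?_) fun i j hij => ?_
  · obtain ⟨i, y, hy⟩ := d.cover x
    exact Opens.mem_iSup.2 ⟨i, y, hy⟩
  · rw [Function.onFun_apply, disjoint_iff]
    ext x
    simp only [Opens.coe_inf, Set.mem_inter_iff, Opens.coe_bot, Set.mem_empty_iff_false, iff_false]
    rintro ⟨⟨a, ha⟩, ⟨b, hb⟩⟩
    exact hij (d.disj i j a b (ha.trans hb.symm))

theorem IsDecomp.existsUnique [Small.{u} σ] (d : IsDecomp ι) {W : Pair.{u}} (g : ∀ i, A i ⟶ W) :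
    ∃! h : P ⟶ W, ∀ i, ι i ≫ h = g i := by
  haveI := d.isOpen
  obtain ⟨hc⟩ := d.isColimit_scheme
  let k : P.total ⟶ W.total := Cofan.IsColimit.desc hc fun i => (g i).hom
  have hk : ∀ i, (ι i).hom ≫ k = (g i).hom := Cofan.IsColimit.fac hc _
  have hamb : IsAmbient P.mod W.mod k := by
    refine le_of_cover (fun i => (ι i).hom) d.cover fun i => ?_
    rw [← d.minimal i, ← Scheme.IdealSheafData.comap_comp, hk]
    exact (g i).cond
  refine ⟨⟨k, hamb⟩, fun i => Pair.Hom.ext (hk i), fun h hh => Pair.Hom.ext ?_⟩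
  exact Cofan.IsColimit.hom_ext hc _ _ fun i => (congrArg Pair.Hom.hom (hh i)).trans (hk i).symm

/-- the cofan of a decomposition is a colimit -/
noncomputable def IsDecomp.isColimit [Small.{u} σ] (d : IsDecomp ι) : IsColimit (Cofan.mk P ι) :=
  mkCofanColimit _ (fun s => (d.existsUnique s.inj).choose) (fun s i => (d.existsUnique s.inj).choose_spec.1 i)
    fun s m hm => (d.existsUnique s.inj).choose_spec.2 m hm

theorem exists_decomp [Small.{u} σ] (A : σ → Pair.{u}) : ∃ (P : Pair.{u}) (ι : ∀ i, A i ⟶ P), IsDecomp ι := by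
  let X := fun i => (A i).total
  let Z := fun i => (A i).mod.subscheme
  let j := fun i => Sigma.ι X i
  let f : (∐ Z) ⟶ ∐ X := Sigma.desc fun i => (A i).mod.subschemeι ≫ j i
  have hdisj : ∀ i k x y, j i x = j k y → i = k := fun i k x y h => congrArg Sigma.fst ((sigmaι_eq_iff X i k x y).1 h)
  have hcov : ∀ x, ∃ i y, j i y = x := fun x => (sigmaOpenCover X).exists_eq x
  have hf : ∀ i, Sigma.ι Z i ≫ f = (A i).mod.subschemeι ≫ j i := fun i => Sigma.ι_desc _ i
  have hpb : ∀ i, IsPullback (A i).mod.subschemeι (Sigma.ι Z i) (j i) f := by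
    intro i
    refine IsOpenImmersion.isPullback _ _ _ _ (hf i) ?_
    ext z
    constructor
    · rintro ⟨x, hx⟩
      obtain ⟨k, w, rfl⟩ := (sigmaOpenCover Z).exists_eq z
      replace hx : j i x = j k ((A k).mod.subschemeι w) := hx.trans (congrArg (fun g => g w) (hf k))
      obtain rfl := hdisj _ _ _ _ hx
      exact ⟨w, rfl⟩
    · rintro ⟨w, rfl⟩
      refine ⟨(A i).mod.subschemeι w, ?_⟩
      show _ = (Sigma.ι Z i ≫ f) w
      rw [hf]
      rfl
  haveI : IsClosedImmersion f := by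
    refine IsZariskiLocalAtTarget.of_iSup_eq_top (P := @IsClosedImmersion) (fun i => (j i).opensRange)
      (eq_top_iff.2 fun x _ => Opens.mem_iSup.2 (by obtain ⟨i, y, hy⟩ := hcov x; exact ⟨i, y, hy⟩)) fun i => ?_
    haveI := isIso_restrict_openImmersion (j i) _ le_rfl
    refine restrict_of_chart @IsClosedImmersion (hf i) _ le_rfl ?_
      (IsZariskiLocalAtTarget.restrict (P := @IsClosedImmersion) inferInstance _)
    intro z hz
    obtain ⟨x, hx⟩ := hz
    obtain ⟨k, w, rfl⟩ := (sigmaOpenCover Z).exists_eq z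
    replace hx : j i x = j k ((A k).mod.subschemeι w) := hx.trans (congrArg (fun g => g w) (hf k))
    obtain rfl := hdisj _ _ _ _ hx
    exact ⟨w, rfl⟩
  have hI : ∀ i, f.ker.comap (j i) = (A i).mod := fun i => by
    rw [← Scheme.IdealSheafData.ker_fst_of_isClosedImmersion, ← Scheme.Hom.ker_comp_of_isIso (hpb i).isoPullback.hom,
      (hpb i).isoPullback_hom_fst, Scheme.IdealSheafData.ker_subschemeι]
  have heff : BlowUp.IsEffCartierIdeal f.ker := BU.isEffCartier_of_cover fun x => by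
    obtain ⟨i, y, hy⟩ := hcov x
    exact ⟨_, j i, inferInstance, ⟨y, hy⟩, (hI i).symm ▸ (A i).isEffCartier⟩
  exact ⟨⟨∐ X, f.ker, heff⟩, fun i => ⟨j i, (hI i).ge⟩, ⟨fun i => inferInstanceAs (IsOpenImmersion (j i)), hcov, hdisj, fun i => (hI i).symm⟩⟩

/-- an admissible blow-up decomposes along a decomposition of its target -/
theorem IsDecomp.restrict_admBlowup (d : IsDecomp ι) {P' : Pair.{u}} {s : P' ⟶ P} (hs : Pair.admBlowup s) :
    ∃ (A' : σ → Pair.{u}) (ι' : ∀ i, A' i ⟶ P') (t : ∀ i, A' i ⟶ A i),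
      IsDecomp ι' ∧ (∀ i, Pair.admBlowup (t i)) ∧ ∀ i, ι' i ≫ s = t i ≫ ι i := by
  haveI := d.isOpen
  obtain ⟨hmin, hproper, hiso⟩ := hs
  let U := fun i => s.hom ⁻¹ᵁ (ι i).hom.opensRange
  let A' : σ → Pair.{u} := fun i => ⟨(U i).toScheme, P'.mod.comap (U i).ι,
    Ideals.isEffCartier_comap_of_flat _ P'.isEffCartier⟩
  let ι' : ∀ i, A' i ⟶ P' := fun i => ⟨(U i).ι, le_refl (P'.mod.comap (U i).ι)⟩
  let t : ∀ i, (U i).toScheme ⟶ (A i).total := fun i =>
    IsOpenImmersion.lift (ι i).hom ((U i).ι ≫ s.hom) (by rintro _ ⟨x, rfl⟩; exact x.2)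
  have ht : ∀ i, t i ≫ (ι i).hom = (U i).ι ≫ s.hom := fun i => IsOpenImmersion.lift_fac _ _ _
  have htmin : ∀ i, (A' i).mod = (A i).mod.comap (t i) := fun i => by
    rw [d.minimal i, ← Scheme.IdealSheafData.comap_comp, ht]
    show P'.mod.comap _ = _
    rw [hmin, ← Scheme.IdealSheafData.comap_comp]
  have hpb : ∀ i, IsPullback (t i) (U i).ι (ι i).hom s.hom := fun i =>
    IsOpenImmersion.isPullback _ _ _ _ (ht i).symm (Scheme.Opens.opensRange_ι _).symm
  refine ⟨A', ι', fun i => ⟨t i, (htmin i).le⟩, ⟨fun i => inferInstanceAs (IsOpenImmersion (U i).ι), fun x => ?_,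
    fun i j x y h => ?_, fun i => rfl⟩, fun i => ⟨htmin i, ?_, ?_⟩, fun i => Pair.Hom.ext (ht i).symm⟩
  · obtain ⟨i, y, hy⟩ := d.cover (s.hom x)
    exact ⟨i, ⟨x, y, hy⟩, rfl⟩
  · refine d.disj i j (t i x) (t j y) ?_
    rw [← Scheme.Hom.comp_apply, ← Scheme.Hom.comp_apply, ht, ht, Scheme.Hom.comp_apply, Scheme.Hom.comp_apply]
    exact congrArg s.hom h
  · exact MorphismProperty.of_isPullback (P := @IsProper) (hpb i).flip hproper
  · rw [show interior (A i).mod = (ι i).hom ⁻¹ᵁ interior P.mod by rw [d.minimal i, interior_comap]]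
    exact isIso_restrict_of_isPullback (hpb i) _

/-- admissible blow-ups glue along decompositions -/
theorem IsDecomp.glue_admBlowup (d : IsDecomp ι) {A' : σ → Pair.{u}} {P' : Pair.{u}} {ι' : ∀ i, A' i ⟶ P'}
    (d' : IsDecomp ι') (t : ∀ i, A' i ⟶ A i) (ht : ∀ i, Pair.admBlowup (t i)) {T : P' ⟶ P}
    (hT : ∀ i, ι' i ≫ T = t i ≫ ι i) : Pair.admBlowup T := by
  haveI := d.isOpen
  haveI := d'.isOpen
  have hTh : ∀ i, (ι' i).hom ≫ T.hom = (t i).hom ≫ (ι i).hom := fun i => congrArg Pair.Hom.hom (hT i)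
  have hW' : ∀ i, T.hom ⁻¹ᵁ (ι i).hom.opensRange ≤ (ι' i).hom.opensRange := by
    rintro i x ⟨a, ha⟩
    obtain ⟨k, b, rfl⟩ := d'.cover x
    have h1 : (ι i).hom a = (ι k).hom ((t k).hom b) := ha.trans (by
      show ((ι' k).hom ≫ T.hom) b = _
      rw [hTh]; rfl)
    obtain rfl := d.disj _ _ _ _ h1
    exact ⟨b, rfl⟩
  refine ⟨?_, ?_, ?_⟩
  · have hkey : ∀ i, P'.mod.comap (ι' i).hom = (P.mod.comap T.hom).comap (ι' i).hom := fun i => by
      rw [← d'.minimal i, (ht i).1, d.minimal i, ← Scheme.IdealSheafData.comap_comp,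
        ← Scheme.IdealSheafData.comap_comp, hTh]
    exact le_antisymm (le_of_cover (fun i => (ι' i).hom) d'.cover fun i => (hkey i).le)
      (le_of_cover (fun i => (ι' i).hom) d'.cover fun i => (hkey i).ge)
  · refine IsZariskiLocalAtTarget.of_iSup_eq_top (P := @IsProper) (fun i => (ι i).hom.opensRange)
      (eq_top_iff.2 fun x _ => Opens.mem_iSup.2 (by obtain ⟨i, y, hy⟩ := d.cover x; exact ⟨i, y, hy⟩)) fun i => ?_
    exact restrict_of_chart @IsProper (hTh i) _ le_rfl (hW' i)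
      (IsZariskiLocalAtTarget.restrict (P := @IsProper) (ht i).2.1 _)
  · refine IsZariskiLocalAtTarget.of_iSup_eq_top (P := MorphismProperty.isomorphisms Scheme)
      (fun i => (interior P.mod).ι ⁻¹ᵁ (ι i).hom.opensRange)
      (eq_top_iff.2 fun x _ => Opens.mem_iSup.2 (by obtain ⟨i, y, hy⟩ := d.cover x.1; exact ⟨i, y, hy⟩)) fun i => ?_
    rw [(MorphismProperty.isomorphisms Scheme).arrow_mk_iso_iff (morphismRestrictRestrict _ _ _)]
    refine restrict_of_chart _ (hTh i) _ ?_ ?_ ?_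
    · rintro x ⟨y, hy, rfl⟩; exact hy
    · rintro x ⟨y, hy, hyx⟩
      exact hW' i (show T.hom x ∈ (ι i).hom.opensRange by rw [← hyx]; exact hy)
    · have h1 : (ι i).hom ⁻¹ᵁ ((interior P.mod).ι ''ᵁ ((interior P.mod).ι ⁻¹ᵁ (ι i).hom.opensRange)) = interior (A i).mod := by
        rw [d.minimal i, interior_comap, Scheme.Hom.image_preimage_eq_opensRange_inf, Scheme.Opens.opensRange_ι,
          Scheme.Hom.preimage_inf, Scheme.Hom.preimage_opensRange, inf_top_eq]
      rw [h1]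
      exact (ht i).2.2

theorem IsDecomp.existsUnique_Q [Small.{u} σ] (d : IsDecomp ι) {W : Pair.{u}} (g : ∀ i, Q.obj (A i) ⟶ Q.obj W) :
    ∃! h : Q.obj P ⟶ Q.obj W, ∀ i, Q.map (ι i) ≫ h = g i := by
  haveI := hasRightCalculus.{u}
  choose A' t a _ hta ha _ using fun i => exists_common (g i) (g i)
  obtain ⟨P', ι', d'⟩ := exists_decomp A'
  obtain ⟨T, hT, -⟩ := d'.existsUnique fun i => t i ≫ ι i
  obtain ⟨c, hc, -⟩ := d'.existsUnique a
  haveI := isIso_Q (d.glue_admBlowup d' t hta hT)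
  refine ⟨inv (Q.map T) ≫ Q.map c, fun i => ?_, fun h hh => ?_⟩
  · haveI := isIso_Q (hta i)
    rw [← cancel_epi (Q.map (t i)), ha, ← Category.assoc, ← Functor.map_comp, ← hT i, Functor.map_comp, Category.assoc,
      IsIso.hom_inv_id_assoc, ← Functor.map_comp, hc]
  · obtain ⟨P₁, s, c₁, c₂, hs, h₁, h₂⟩ := exists_common h (inv (Q.map T) ≫ Q.map c)
    haveI := isIso_Q hs
    obtain ⟨B, κ, r, dB, hr, hκ⟩ := d.restrict_admBlowup hs
    have heq : ∀ i, Q.map (κ i ≫ c₁) = Q.map (κ i ≫ c₂) := fun i => by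
      haveI := isIso_Q (hta i)
      rw [Functor.map_comp, Functor.map_comp, ← h₁, ← h₂, ← Category.assoc, ← Functor.map_comp, hκ, Functor.map_comp,
        Category.assoc, hh]
      rw [← Category.assoc (Q.map (κ i)), ← Functor.map_comp, hκ, Functor.map_comp, Category.assoc]
      congr 1
      rw [← cancel_epi (Q.map (t i)), ha, ← Category.assoc (Q.map (t i)), ← Functor.map_comp, ← hT i, Functor.map_comp,
        Category.assoc, IsIso.hom_inv_id_assoc, ← Functor.map_comp, hc]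
    choose B' r' hr' heq' using fun i => exists_precomp (heq i)
    obtain ⟨P₂, κ', dB'⟩ := exists_decomp B'
    obtain ⟨R, hR, -⟩ := dB'.existsUnique fun i => r' i ≫ κ i
    haveI := isIso_Q (dB.glue_admBlowup dB' r' hr' hR)
    have h3 : R ≫ c₁ = R ≫ c₂ := (dB'.existsUnique fun i => κ' i ≫ R ≫ c₁).unique (fun i => rfl) fun i => by
      rw [← Category.assoc, hR, ← Category.assoc (κ' i), hR, Category.assoc, Category.assoc, heq']
    rw [← cancel_epi (Q.map s), h₁, h₂, ← cancel_epi (Q.map R), ← Functor.map_comp, ← Functor.map_comp, h3]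

theorem IsDecomp.isColimit_Q [Small.{u} σ] (d : IsDecomp ι) :
    Nonempty (IsColimit (Cofan.mk (Q.obj P) fun i => Q.map (ι i))) := by
  haveI : Q.EssSurj := Localization.essSurj Q Pair.admBlowup.{u}
  have key : ∀ s : Cofan fun i => Q.obj (A i), ∃! h : Q.obj P ⟶ s.pt, ∀ i, Q.map (ι i) ≫ h = s.inj i := fun s => by
    let e := Q.objObjPreimageIso s.pt
    obtain ⟨h, hh, hu⟩ := d.existsUnique_Q fun i => s.inj i ≫ e.inv
    refine ⟨h ≫ e.hom, fun i => by rw [← Category.assoc, hh, Category.assoc, e.inv_hom_id, Category.comp_id],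
      fun h' hh' => ?_⟩
    rw [← hu (h' ≫ e.inv) fun i => by rw [← Category.assoc, hh']]
    simp
  exact ⟨mkCofanColimit _ (fun s => (key s).choose) (fun s i => (key s).choose_spec.1 i)
    fun s m hm => (key s).choose_spec.2 m hm⟩

theorem hasCoproductsOfShape (σ : Type v) [Small.{u} σ] : HasColimitsOfShape (Discrete σ) Pair.{u} :=
  ⟨fun K => by
    obtain ⟨P, ι, d⟩ := exists_decomp fun i => K.obj ⟨i⟩
    haveI : HasColimit (Discrete.functor fun i => K.obj ⟨i⟩) := ⟨⟨⟨_, d.isColimit⟩⟩⟩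
    exact hasColimit_of_iso (F := Discrete.functor fun i => K.obj ⟨i⟩) (G := K) Discrete.natIsoFunctor⟩

theorem preserves_forget (σ : Type v) [Small.{u} σ] : PreservesColimitsOfShape (Discrete σ) Pair.forget.{u} :=
  ⟨fun {K} => by
    obtain ⟨P, ι, d⟩ := exists_decomp fun i => K.obj ⟨i⟩
    obtain ⟨hc⟩ := d.isColimit_scheme
    haveI : PreservesColimit (Discrete.functor fun i => K.obj ⟨i⟩) Pair.forget.{u} :=
      preservesColimit_of_preserves_colimit_cocone d.isColimit ((isColimitMapCoconeCofanMkEquiv _ _ _).symm hc)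
    exact preservesColimit_of_iso_diagram (K₁ := Discrete.functor fun i => K.obj ⟨i⟩) _ Discrete.natIsoFunctor.symm⟩

theorem preserves_Q (σ : Type v) [Small.{u} σ] : PreservesColimitsOfShape (Discrete σ) Q.{u} :=
  ⟨fun {K} => by
    obtain ⟨P, ι, d⟩ := exists_decomp fun i => K.obj ⟨i⟩
    obtain ⟨hc⟩ := d.isColimit_Q
    haveI : PreservesColimit (Discrete.functor fun i => K.obj ⟨i⟩) Q.{u} :=
      preservesColimit_of_preserves_colimit_cocone d.isColimit ((isColimitMapCoconeCofanMkEquiv _ _ _).symm hc)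
    exact preservesColimit_of_iso_diagram (K₁ := Discrete.functor fun i => K.obj ⟨i⟩) _ Discrete.natIsoFunctor.symm⟩

theorem hasCoproductsOfShape_Q (σ : Type v) [Small.{u} σ] :
    HasColimitsOfShape (Discrete σ) (Pair.admBlowup.{u}).Localization :=
  ⟨fun K => by
    haveI : Q.EssSurj := Localization.essSurj Q Pair.admBlowup.{u}
    obtain ⟨P, ι, d⟩ := exists_decomp fun i => Q.objPreimage (K.obj ⟨i⟩)
    obtain ⟨hc⟩ := d.isColimit_Q
    haveI : HasColimit (Discrete.functor fun i => Q.obj (Q.objPreimage (K.obj ⟨i⟩))) := ⟨⟨⟨_, hc⟩⟩⟩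
    exact hasColimit_of_iso (F := Discrete.functor fun i => Q.obj (Q.objPreimage (K.obj ⟨i⟩))) (G := K)
      (Discrete.natIso fun i => (Q.objObjPreimageIso (K.obj i)).symm)⟩

end Groth.L13.MP
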