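import Groth.Agent.L13.ModPair.ValFinite
import Groth.Agent.L13.ModPair.Basic
import Groth.Agent.L13.BlowUp.Local
import Mathlib.RingTheory.Valuation.LocalSubring
import Mathlib.RingTheory.Ideal.MinimalPrime.Localization
import Mathlib.RingTheory.Flat.TorsionFree

/-! Finiteness over semi-valuation rings. -/

set_option autoImplicit false

universe u

open CategoryTheory CategoryTheory.Limits AlgebraicGeometry TopologicalSpace Opposite TensorProduct

namespace Groth.L13.MP

/-- below a prime containing a nonzerodivisor `x` there is a prime avoiding `x` containing all infinitely divisible elements -/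
theorem exists_prime_infinitely_divisible {B : Type u} [CommRing B] (x : B) (hx : x ∈ nonZeroDivisors B)
    (z : Ideal B) [z.IsPrime] (hxz : x ∈ z) :
    ∃ q : Ideal B, q.IsPrime ∧ q ≤ z ∧ x ∉ q ∧ ∀ a, (∀ n : ℕ, x ^ n ∣ a) → a ∈ q := by
  obtain ⟨P, hP, hPz⟩ := Ideal.exists_minimalPrimes_le (I := (⊥ : Ideal B)) (J := z) bot_le
  haveI := hP.1.1
  let K := FractionRing (B ⧸ P)
  let g : B →+* K := (algebraMap (B ⧸ P) K).comp (Ideal.Quotient.mk P)
  have hg : ∀ b, g b = 0 ↔ b ∈ P := fun b => by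
    simp only [g, RingHom.coe_comp, Function.comp_apply, map_eq_zero_iff _ (IsFractionRing.injective (B ⧸ P) K),
      Ideal.Quotient.eq_zero_iff_mem]
  have hgx : g x ≠ 0 := fun h => Set.disjoint_left.1 (Ideal.disjoint_nonZeroDivisors_of_mem_minimalPrimes hP) ((hg x).1 h) hx
  let φ : Localization.AtPrime z →+* K := IsLocalization.lift (M := z.primeCompl) (g := g)
    fun b => isUnit_iff_ne_zero.2 fun h => b.2 (hPz ((hg _).1 h))
  have hφ : ∀ b, φ (algebraMap B _ b) = g b := fun b => IsLocalization.lift_eq _ b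
  let I : Ideal φ.range := (IsLocalRing.maximalIdeal (Localization.AtPrime z)).map φ.rangeRestrict
  have hI : I ≠ ⊤ := fun h => by
    have h1 : Ideal.comap φ.rangeRestrict I = ⊤ := by rw [h, Ideal.comap_top]
    rw [Ideal.comap_map_of_surjective _ φ.rangeRestrict_surjective] at h1
    refine IsLocalRing.maximalIdeal.isMaximal _ |>.ne_top (eq_top_iff.2 (h1.ge.trans (sup_le le_rfl ?_)))
    intro y hy
    refine (IsLocalRing.mem_maximalIdeal y).2 fun hu => ?_
    have := hu.map φ.rangeRestrict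
    rw [Ideal.mem_comap, Ideal.mem_bot] at hy
    exact this.ne_zero hy
  obtain ⟨V, hAV, hIV⟩ := I.image_subset_nonunits_valuationSubring hI
  have hgV : ∀ b, g b ∈ V := fun b => hAV ⟨_, hφ b⟩
  let ψ : B →+* V := g.codRestrict V.toSubring hgV
  have hψ : ∀ b, b ∈ z → ¬ IsUnit (ψ b) := fun b hb hu => by
    have h1 : φ.rangeRestrict (algebraMap B _ b) ∈ I :=
      Ideal.mem_map_of_mem _ ((IsLocalization.AtPrime.to_map_mem_maximal_iff _ z b).2 hb)
    have h2 : g b ∈ V.nonunits := hIV ⟨_, h1, hφ b⟩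
    rw [ValuationSubring.mem_nonunits_iff_exists_mem_maximalIdeal] at h2
    obtain ⟨_, h3⟩ := h2
    exact (IsLocalRing.mem_maximalIdeal _).1 h3 hu
  have hψ' : ∀ b, b ∉ z → IsUnit (ψ b) := fun b hb => by
    have hu := IsLocalization.map_units (Localization.AtPrime z) (⟨b, hb⟩ : z.primeCompl)
    obtain ⟨u, hu⟩ := hu
    have hinv : φ ↑u⁻¹ ∈ V := hAV ⟨_, rfl⟩
    refine IsUnit.of_mul_eq_one (⟨φ ↑u⁻¹, hinv⟩ : V) (Subtype.ext ?_)
    show g b * φ ↑u⁻¹ = 1
    rw [← hφ b, ← map_mul, show algebraMap B (Localization.AtPrime z) b = ↑u from hu.symm, Units.mul_inv, map_one]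
  let w : Ideal V := ⨅ n : ℕ, Ideal.span {ψ x ^ n}
  have hw : ∀ v, v ∈ w ↔ ∀ n : ℕ, ψ x ^ n ∣ v := fun v => by simp [w, Submodule.mem_iInf, Ideal.mem_span_singleton]
  have hx0 : ψ x ≠ 0 := fun h => hgx (congrArg Subtype.val h)
  have hwprime : w.IsPrime := by
    refine ⟨fun h => hψ x hxz (isUnit_of_dvd_one (pow_one (ψ x) ▸ (hw 1).1 (h ▸ Submodule.mem_top) 1)), fun {a b} hab => ?_⟩
    by_contra hc
    push Not at hc
    obtain ⟨ha, hb⟩ := hc
    rw [hw] at ha hb
    push Not at ha hb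
    obtain ⟨k, hk⟩ := ha
    obtain ⟨l, hl⟩ := hb
    obtain ⟨c, hc⟩ := (ValuationRing.dvd_total a (ψ x ^ k)).resolve_right hk
    obtain ⟨d, hd⟩ := (ValuationRing.dvd_total b (ψ x ^ l)).resolve_right hl
    obtain ⟨e, he⟩ := (hw _).1 hab (k + l + 1)
    have hee : ψ x ^ (k + l) * 1 = ψ x ^ (k + l) * (ψ x * (e * (c * d))) := by
      calc ψ x ^ (k + l) * 1 = (a * c) * (b * d) := by rw [mul_one, pow_add, hc, hd]
        _ = a * b * (c * d) := by ring
        _ = _ := by rw [he]; ring
    exact hψ x hxz (IsUnit.of_mul_eq_one _ (mul_left_cancel₀ (pow_ne_zero _ hx0) hee).symm)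
  refine ⟨w.comap ψ, Ideal.comap_isPrime ψ w, fun b hb => ?_, fun h => ?_, fun a ha => ?_⟩
  · by_contra hbz
    exact hwprime.ne_top (Ideal.eq_top_of_isUnit_mem w hb (hψ' b hbz))
  · obtain ⟨c, hc⟩ := (hw _).1 h 2
    refine hψ x hxz (IsUnit.of_mul_eq_one c (mul_left_cancel₀ hx0 ?_))
    rw [mul_one, ← mul_assoc, ← sq]
    exact hc.symm
  · rw [Ideal.mem_comap, hw]
    intro n
    rw [← map_pow]
    exact map_dvd ψ (ha n)

theorem comap_includeRight_injective {R B : Type u} [CommRing R] [IsDomain R] [CommRing B] [Algebra R B] :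
    Function.Injective (PrimeSpectrum.comap
      (Algebra.TensorProduct.includeRight : B →ₐ[R] FractionRing R ⊗[R] B).toRingHom) := by
  have key : ∀ y : FractionRing R ⊗[R] B, ∃ d : R, d ≠ 0 ∧ ∃ b : B, d • y = (1 : FractionRing R) ⊗ₜ[R] b := by
    intro y
    induction y using TensorProduct.induction_on with
    | zero => exact ⟨1, one_ne_zero, 0, by simp⟩
    | tmul c b =>
      obtain ⟨⟨r, d⟩, h⟩ := IsLocalization.surj (nonZeroDivisors R) c
      refine ⟨d, nonZeroDivisors.ne_zero d.2, r • b, ?_⟩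
      rw [TensorProduct.smul_tmul', TensorProduct.tmul_smul, TensorProduct.smul_tmul', ← Algebra.algebraMap_eq_smul_one r,
        Algebra.smul_def, mul_comm, h]
    | add y z hy hz =>
      obtain ⟨d, hd, b, hb⟩ := hy
      obtain ⟨e, he, c, hc⟩ := hz
      refine ⟨d * e, mul_ne_zero hd he, e • b + d • c, ?_⟩
      rw [TensorProduct.tmul_add, TensorProduct.tmul_smul, TensorProduct.tmul_smul, ← hb, ← hc, smul_add, smul_smul,
        smul_smul, mul_comm e d]
  intro P Q h
  ext y
  obtain ⟨d, hd, b, hb⟩ := key y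
  have hu : IsUnit (algebraMap R (FractionRing R ⊗[R] B) d) := by
    rw [IsScalarTower.algebraMap_apply R (FractionRing R) (FractionRing R ⊗[R] B)]
    exact (isUnit_iff_ne_zero.2 fun h0 => hd (IsFractionRing.injective R (FractionRing R) (h0.trans (map_zero _).symm))).map _
  rw [← Ideal.unit_mul_mem_iff_mem P.asIdeal hu, ← Ideal.unit_mul_mem_iff_mem Q.asIdeal hu, ← Algebra.smul_def, hb]
  exact SetLike.ext_iff.1 (congrArg PrimeSpectrum.asIdeal h) b

/-- finite fibres over all primes for an integral algebra over a valuation ring with finite generic fibre -/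
theorem finite_preimage_of_valuation {R B : Type u} [CommRing R] [IsDomain R] [ValuationRing R] [CommRing B] [IsDomain B]
    [Algebra R B] [Algebra.FiniteType R B] (hinj : Function.Injective (algebraMap R B))
    (hgen : {y : PrimeSpectrum B | y.asIdeal.comap (algebraMap R B) = ⊥}.Finite) (p : PrimeSpectrum R) :
    (PrimeSpectrum.comap (algebraMap R B) ⁻¹' {p}).Finite := by
  haveI : FaithfulSMul R B := (faithfulSMul_iff_algebraMap_injective R B).2 hinj
  haveI : Module.IsTorsionFree R B := inferInstance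
  haveI : Module.Flat R B := Module.Flat.flat_iff_torsion_eq_bot_of_isBezout.2
    (Submodule.isTorsionFree_iff_torsion_eq_bot.1 inferInstance)
  haveI : Algebra.QuasiFinite (FractionRing R) (FractionRing R ⊗[R] B) := by
    refine Algebra.QuasiFinite.iff_finite_comap_preimage_singleton.2 fun x => Set.Finite.subset ?_ (Set.subset_univ _)
    refine Set.Finite.of_finite_image (hgen.subset ?_) comap_includeRight_injective.injOn
    rintro _ ⟨P, -, rfl⟩
    refine eq_bot_iff.2 fun r hr => ?_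
    by_contra hr0
    refine P.isPrime.ne_top (Ideal.eq_top_of_isUnit_mem _ hr ?_)
    show IsUnit ((Algebra.TensorProduct.includeRight : B →ₐ[R] FractionRing R ⊗[R] B) (algebraMap R B r))
    rw [AlgHom.commutes, IsScalarTower.algebraMap_apply R (FractionRing R) (FractionRing R ⊗[R] B)]
    exact (isUnit_iff_ne_zero.2 fun h0 => hr0 ((Submodule.mem_bot R).2
      (IsFractionRing.injective R (FractionRing R) (h0.trans (map_zero _).symm)))).map _
  haveI : Module.Finite (FractionRing R) (FractionRing R ⊗[R] B) := Module.Finite.of_quasiFinite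
  haveI : Algebra.QuasiFinite R B := quasiFinite_of_valuation
  exact Algebra.QuasiFinite.finite_comap_preimage_singleton p

/-- the algebraic core: finite fibres over the semi-valuation ring -/
theorem finite_preimage_semiVal {A R B : Type u} [CommRing A] [CommRing R] [IsDomain R] [ValuationRing R] [CommRing B]
    [Algebra A B] [Algebra.FiniteType A B] (ρ : A →+* R) (hρ : Function.Surjective ρ) (f : A)
    (hdiv : ∀ a, ρ a = 0 → ∀ n : ℕ, f ^ n ∣ a)
    (hmax : ∀ p : PrimeSpectrum A, f ∉ p.asIdeal → p.asIdeal ≤ RingHom.ker ρ)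
    (hf : algebraMap A B f ∈ nonZeroDivisors B)
    (hfin : ∀ p : PrimeSpectrum A, f ∉ p.asIdeal → (PrimeSpectrum.comap (algebraMap A B) ⁻¹' {p}).Finite)
    (p : PrimeSpectrum A) : (PrimeSpectrum.comap (algebraMap A B) ⁻¹' {p}).Finite := by
  by_cases hp : f ∈ p.asIdeal
  swap
  · exact hfin p hp
  let m : PrimeSpectrum A := ⟨RingHom.ker ρ, RingHom.ker_isPrime ρ⟩
  have hfm : f ∉ m.asIdeal → ((PrimeSpectrum.comap (algebraMap A B)) ⁻¹' {m}).Finite := hfin m
  let Φ := (PrimeSpectrum.comap (algebraMap A B)) ⁻¹' {m} ∩ {y | algebraMap A B f ∉ y.asIdeal}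
  have hΦ : Φ.Finite := by
    by_cases h : f ∈ m.asIdeal
    · refine Set.finite_empty.subset ?_
      rintro y ⟨hy, hy'⟩
      exact (hy' (by rw [← Ideal.mem_comap, ← PrimeSpectrum.comap_asIdeal, show _ = m from hy]; exact h)).elim
    · exact (hfm h).subset Set.inter_subset_left
  suffices ∀ y ∈ Φ, {z | z ∈ PrimeSpectrum.comap (algebraMap A B) ⁻¹' {p} ∧ y.asIdeal ≤ z.asIdeal}.Finite by
    refine (hΦ.biUnion this).subset fun z hz => ?_
    have hz' : algebraMap A B f ∈ z.asIdeal := by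
      rw [← Ideal.mem_comap, ← PrimeSpectrum.comap_asIdeal, show _ = p from hz]; exact hp
    obtain ⟨q, hq, hqz, hfq, hqdiv⟩ := exists_prime_infinitely_divisible _ hf z.asIdeal hz'
    refine Set.mem_biUnion (x := ⟨q, hq⟩) ⟨PrimeSpectrum.ext (le_antisymm ?_ ?_), hfq⟩ ⟨hz, hqz⟩
    · exact hmax ⟨_, Ideal.comap_isPrime (algebraMap A B) q⟩ hfq
    · intro a ha
      exact hqdiv _ fun n => map_pow (algebraMap A B) f n ▸ map_dvd _ (hdiv a ha n)
  rintro y ⟨hy, hfy⟩
  have hy' : y.asIdeal.comap (algebraMap A B) = RingHom.ker ρ := congrArg PrimeSpectrum.asIdeal hy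
  let ψ : A →+* B ⧸ y.asIdeal := (Ideal.Quotient.mk y.asIdeal).comp (algebraMap A B)
  have hker : RingHom.ker ψ = RingHom.ker ρ := by rw [← RingHom.comap_ker, Ideal.mk_ker, hy']
  let χ : R →+* B ⧸ y.asIdeal := RingHom.liftOfSurjective ρ hρ ⟨ψ, hker.ge⟩
  have hχ : ∀ a, χ (ρ a) = ψ a := RingHom.liftOfSurjective_comp_apply ρ hρ _
  letI := χ.toAlgebra
  have hinj : Function.Injective (algebraMap R (B ⧸ y.asIdeal)) := by
    rw [injective_iff_map_eq_zero]
    intro r hr
    obtain ⟨a, rfl⟩ := hρ r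
    exact RingHom.mem_ker.1 (hker ▸ RingHom.mem_ker.2 ((hχ a).symm.trans hr))
  haveI : Algebra.FiniteType R (B ⧸ y.asIdeal) := by
    rw [← RingHom.finiteType_algebraMap]
    refine RingHom.FiniteType.of_comp_finiteType (f := ρ) ?_
    rw [show (algebraMap R (B ⧸ y.asIdeal)).comp ρ = ψ from RingHom.ext hχ]
    exact (RingHom.FiniteType.of_surjective _ Ideal.Quotient.mk_surjective).comp (RingHom.finiteType_algebraMap.2 inferInstance)
  let c := PrimeSpectrum.comap (Ideal.Quotient.mk y.asIdeal)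
  have hc : Function.Injective c := PrimeSpectrum.comap_injective_of_surjective _ Ideal.Quotient.mk_surjective
  have hcomap : ∀ t, (PrimeSpectrum.comap (algebraMap R (B ⧸ y.asIdeal)) t).asIdeal.comap ρ =
      (c t).asIdeal.comap (algebraMap A B) := fun t => by
    rw [PrimeSpectrum.comap_asIdeal, PrimeSpectrum.comap_asIdeal, Ideal.comap_comap, Ideal.comap_comap]
    congr 1
    exact RingHom.ext hχ
  have hgen : {t : PrimeSpectrum (B ⧸ y.asIdeal) | t.asIdeal.comap (algebraMap R (B ⧸ y.asIdeal)) = ⊥}.Finite := by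
    refine Set.Finite.of_finite_image (hΦ.subset ?_) hc.injOn
    rintro _ ⟨t, ht, rfl⟩
    have h1 : (c t).asIdeal.comap (algebraMap A B) = RingHom.ker ρ := by
      rw [← hcomap, show (PrimeSpectrum.comap (algebraMap R _) t).asIdeal = ⊥ from ht]; rfl
    refine ⟨PrimeSpectrum.ext h1, fun hft => ?_⟩
    have h2 : f ∈ RingHom.ker ρ := h1 ▸ hft
    exact hfy (show algebraMap A B f ∈ y.asIdeal by rw [← Ideal.mem_comap, hy']; exact h2)
  rcases Set.eq_empty_or_nonempty {z | z ∈ PrimeSpectrum.comap (algebraMap A B) ⁻¹' {p} ∧ y.asIdeal ≤ z.asIdeal} with he | ⟨z₀, hz₀, hyz₀⟩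
  · rw [he]; exact Set.finite_empty
  let p' : Ideal R := p.asIdeal.map ρ
  have hmp : RingHom.ker ρ ≤ p.asIdeal := by
    rw [← hy', ← congrArg PrimeSpectrum.asIdeal (show _ = p from hz₀), PrimeSpectrum.comap_asIdeal]
    exact Ideal.comap_mono hyz₀
  haveI : p'.IsPrime := Ideal.map_isPrime_of_surjective hρ hmp
  refine ((finite_preimage_of_valuation hinj hgen ⟨p', inferInstance⟩).image c).subset ?_
  rintro z ⟨hz, hyz⟩
  haveI : (z.asIdeal.map (Ideal.Quotient.mk y.asIdeal)).IsPrime :=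
    Ideal.map_isPrime_of_surjective Ideal.Quotient.mk_surjective (by rwa [Ideal.mk_ker])
  refine ⟨⟨z.asIdeal.map (Ideal.Quotient.mk y.asIdeal), inferInstance⟩, PrimeSpectrum.ext ?_, PrimeSpectrum.ext ?_⟩
  · refine Ideal.comap_injective_of_surjective ρ hρ ?_
    rw [hcomap, PrimeSpectrum.comap_asIdeal, Ideal.comap_map_of_surjective' _ Ideal.Quotient.mk_surjective, Ideal.mk_ker,
      sup_eq_left.2 hyz]
    show z.asIdeal.comap (algebraMap A B) = p'.comap ρ
    rw [Ideal.comap_map_of_surjective' _ hρ, sup_eq_left.2 hmp]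
    exact congrArg PrimeSpectrum.asIdeal hz
  · rw [PrimeSpectrum.comap_asIdeal, Ideal.comap_map_of_surjective' _ Ideal.Quotient.mk_surjective, Ideal.mk_ker,
      sup_eq_left.2 hyz]

theorem ker_SpecMap_quotient {A : Type u} [CommRing A] (I : Ideal A) :
    (Spec.map (CommRingCat.ofHom (Ideal.Quotient.mk I))).ker = BU.idealOf I := by
  refine Scheme.IdealSheafData.ext_of_isAffine ?_
  rw [BU.idealOf_top, Scheme.Hom.ker_apply]
  let e := (Scheme.ΓSpecIso (CommRingCat.of A)).commRingCatIsoToRingEquiv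
  let e' := (Scheme.ΓSpecIso (CommRingCat.of (A ⧸ I))).commRingCatIsoToRingEquiv
  ext s
  have hnat : e' ((Spec.map (CommRingCat.ofHom (Ideal.Quotient.mk I))).appTop s) = Ideal.Quotient.mk I (e s) :=
    congrArg (fun φ => φ.hom s) (Scheme.ΓSpecIso_naturality (CommRingCat.ofHom (Ideal.Quotient.mk I)))
  show (Spec.map (CommRingCat.ofHom (Ideal.Quotient.mk I))).appTop s = 0 ↔ s ∈ I.map e.symm.toRingHom
  rw [← map_eq_zero_iff e' e'.injective, hnat, Ideal.Quotient.eq_zero_iff_mem]
  show _ ↔ s ∈ I.map e.symm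
  rw [Ideal.map_symm]
  rfl

/-- a proper morphism to a semi-valuation ring, minimal and finite over the interior, is finite -/
theorem isFinite_semiVal {A R : Type u} [CommRing A] [CommRing R] [IsDomain R] [ValuationRing R] (ρ : A →+* R)
    (hρ : Function.Surjective ρ) (f : A) (hdiv : ∀ a, ρ a = 0 → ∀ n : ℕ, f ^ n ∣ a)
    (hmax : ∀ p : PrimeSpectrum A, f ∉ p.asIdeal → p.asIdeal ≤ RingHom.ker ρ)
    {Q : Scheme.{u}} (q : Q ⟶ Spec (CommRingCat.of A))
    (hQ : BlowUp.IsEffCartierIdeal ((BU.idealOf (Ideal.span {f})).comap q)) [IsProper q]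
    [hfin : IsFinite (q ∣_ ModPair.interior (BU.idealOf (Ideal.span {f})))] : IsFinite q := by
  let U := ModPair.interior (BU.idealOf (Ideal.span {f}))
  have hfinite : ∀ p : Spec (CommRingCat.of A), f ∉ p.asIdeal → (q ⁻¹' {p}).Finite := by
    intro p hp
    have hpU : p ∈ U := by
      have h1 := interior_inf_eq_basicOpen (I := BU.idealOf (Ideal.span {f})) (U := ⟨⊤, isAffineOpen_top _⟩)
        (g := (Scheme.ΓSpecIso (CommRingCat.of A)).inv f) (by rw [BU.idealOf_top, Ideal.map_span, Set.image_singleton])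
      have h2 : p ∈ (Spec (CommRingCat.of A)).basicOpen ((Scheme.ΓSpecIso (CommRingCat.of A)).inv f) := by
        rw [basicOpen_eq_of_affine]
        exact hp
      rw [← h1] at h2
      exact h2.2
    refine (((q ∣_ U).finite_preimage_singleton ⟨p, hpU⟩).image (q ⁻¹ᵁ U).ι).subset ?_
    intro x hx
    exact ⟨⟨x, show q x ∈ U from (show q x = p from hx) ▸ hpU⟩,
      Subtype.ext ((morphismRestrict_base_coe q U _).trans hx), rfl⟩
  suffices ∀ p, (q ⁻¹' {p}).Finite from
    haveI := LocallyQuasiFinite.of_finite_preimage_singleton q this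
    IsFinite.of_isProper_of_locallyQuasiFinite q
  intro p
  haveI : CompactSpace Q := QuasiCompact.compactSpace_of_compactSpace q
  choose V hxV using fun x : Q =>
    show ∃ V : Q.affineOpens, x ∈ V.1 from by
      obtain ⟨_, ⟨W, hW, rfl⟩, hxW, -⟩ :=
        Q.isBasis_affineOpens.exists_subset_of_mem_open (Set.mem_univ x) isOpen_univ
      exact ⟨⟨W, hW⟩, hxW⟩
  obtain ⟨s, hs⟩ := isCompact_univ.elim_finite_subcover (fun x : Q => ((V x).1 : Set Q))
    (fun x => (V x).1.2) fun x _ => Set.mem_iUnion.2 ⟨x, hxV x⟩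
  refine (Set.Finite.biUnion s.finite_toSet (t := fun x => ((V x).1 : Set Q) ∩ q ⁻¹' {p}) fun x _ => ?_).subset fun z hz => by
    obtain ⟨x, hx, hzx⟩ := Set.mem_iUnion₂.1 (hs (Set.mem_univ z))
    exact Set.mem_biUnion hx ⟨hzx, hz⟩
  have hW : IsAffineOpen (V x).1 := (V x).2
  let φ : A →+* Γ(Q, (V x).1) := BU.affHom q hW
  have hφ : hW.fromSpec ≫ q = Spec.map (CommRingCat.ofHom φ) := BU.fromSpec_affHom q hW
  letI := φ.toAlgebra
  haveI : Algebra.FiniteType A Γ(Q, (V x).1) := by
    have h1 : LocallyOfFiniteType (Spec.map (CommRingCat.ofHom φ)) := hφ ▸ inferInstance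
    exact RingHom.finiteType_algebraMap.1 ((HasRingHomProperty.Spec_iff (P := @LocallyOfFiniteType)).1 h1)
  have hgenf : algebraMap A Γ(Q, (V x).1) f ∈ nonZeroDivisors Γ(Q, (V x).1) :=
    BU.nzd_of_span hQ (V x) _ (by rw [BU.comap_affHom q (V x), Ideal.map_span, Set.image_singleton]; rfl)
  have hstep := finite_preimage_semiVal ρ hρ f hdiv hmax hgenf (fun p' hp' => by
    refine Set.Finite.of_finite_image ((hfinite p' hp').subset ?_) hW.fromSpec.isOpenEmbedding.injective.injOn
    rintro _ ⟨t, ht, rfl⟩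
    show (hW.fromSpec ≫ q) t = p'
    rw [hφ]; exact ht) p
  refine (hstep.image hW.fromSpec).subset ?_
  rintro z ⟨hz, hzp⟩
  rw [← hW.range_fromSpec] at hz
  obtain ⟨t, rfl⟩ := hz
  exact ⟨t, show Spec.map (CommRingCat.ofHom φ) t = p by rw [← hφ]; exact hzp, rfl⟩

end Groth.L13.MP
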