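import Mathlib.AlgebraicGeometry.ZariskisMainTheorem
import Mathlib.AlgebraicGeometry.Morphisms.Flat
import Mathlib.RingTheory.Valuation.ValuationRing
import Mathlib.RingTheory.Flat.TorsionFree
import Mathlib.LinearAlgebra.Dimension.Finite

/-! Flat generically finite algebras over valuation rings are quasi-finite. -/

set_option autoImplicit false

universe u

open CategoryTheory CategoryTheory.Limits AlgebraicGeometry TopologicalSpace Opposite TensorProduct

namespace Groth.L13.MP

variable {R B : Type u} [CommRing R] [IsDomain R] [ValuationRing R] [CommRing B] [Algebra R B]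

/-- among `n + 1` elements there is a relation with a unit coefficient -/
theorem exists_unit_relation [Module.Flat R B] {σ : Type} [Fintype σ] (b : σ → B)
    (h : ¬ LinearIndependent (FractionRing R) fun i => (1 : FractionRing R) ⊗ₜ[R] b i) :
    ∃ e : σ → R, ∑ i, e i • b i = 0 ∧ ∃ j, IsUnit (e j) := by
  classical
  obtain ⟨c, hc, i₀, hi₀⟩ := Fintype.not_linearIndependent_iff.1 h
  obtain ⟨⟨d, hd⟩, hint⟩ := IsLocalization.exist_integer_multiples_of_finite (nonZeroDivisors R) c
  choose r hr using hint
  have hinj : Function.Injective (fun x : B => (1 : FractionRing R) ⊗ₜ[R] x) := by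
    have h1 := Module.Flat.rTensor_preserves_injective_linearMap (M := B) (Algebra.linearMap R (FractionRing R))
      (IsFractionRing.injective R (FractionRing R))
    intro x y hxy
    refine (TensorProduct.lid R B).symm.injective (h1 ?_)
    simpa using hxy
  have hrel : ∑ i, r i • b i = 0 := by
    refine hinj ?_
    simp only [TensorProduct.tmul_sum, TensorProduct.tmul_smul, TensorProduct.tmul_zero]
    have hstep : ∀ i, r i • ((1 : FractionRing R) ⊗ₜ[R] b i) = d • (c i • ((1 : FractionRing R) ⊗ₜ[R] b i)) := fun i => by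
      rw [← smul_assoc d (c i), ← show algebraMap R (FractionRing R) (r i) = d • c i from hr i, algebraMap_smul]
    rw [Finset.sum_congr rfl fun i _ => hstep i, ← Finset.smul_sum, hc, smul_zero]
  have hr0 : r i₀ ≠ 0 := fun h0 => by
    have := hr i₀
    rw [h0, map_zero, Algebra.smul_def] at this
    exact hi₀ ((mul_eq_zero.1 this.symm).resolve_left fun h' => nonZeroDivisors.ne_zero hd
      ((FaithfulSMul.algebraMap_injective R (FractionRing R)) (h'.trans (map_zero _).symm)))
  obtain ⟨g, hg⟩ := (IsBezout.isPrincipal_of_FG (Ideal.span (Set.range r)) (Submodule.fg_span (Set.finite_range r))).principal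
  have hg' : ∀ i, g ∣ r i := fun i =>
    Ideal.mem_span_singleton.1 (hg.le (Ideal.subset_span (s := Set.range r) ⟨i, rfl⟩))
  choose e he using hg'
  have hg0 : g ≠ 0 := fun h0 => hr0 (by rw [he i₀, h0, zero_mul])
  obtain ⟨a, ha⟩ := Ideal.mem_span_range_iff_exists_fun.1
    (show g ∈ Ideal.span (Set.range r) from hg.ge (Ideal.mem_span_singleton_self g))
  refine ⟨e, ?_, ?_⟩
  · haveI : Module.IsTorsionFree R B := Module.Flat.isTorsionFree
    have h2 : g • ∑ i, e i • b i = 0 := by
      rw [Finset.smul_sum]
      simp_rw [smul_smul, ← he]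
      exact hrel
    exact (smul_eq_zero_iff_right hg0).1 h2
  · by_contra hu
    push Not at hu
    have h1 : ∑ i, a i * e i = 1 := by
      refine mul_left_cancel₀ hg0 ?_
      rw [mul_one, Finset.mul_sum]
      refine Eq.trans (Finset.sum_congr rfl fun i _ => ?_) ha
      rw [he i]; ring
    exact (IsLocalRing.notMem_maximalIdeal.2 isUnit_one)
      (h1 ▸ sum_mem fun i _ => Ideal.mul_mem_left _ _ ((IsLocalRing.mem_maximalIdeal _).2 (hu i)))

theorem quasiFinite_of_valuation [Module.Flat R B] [Module.Finite (FractionRing R) (FractionRing R ⊗[R] B)] :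
    Algebra.QuasiFinite R B := by
  refine ⟨fun P _ => ?_⟩
  let v : B → P.Fiber B := fun x => (1 : P.ResidueField) ⊗ₜ[R] x
  obtain ⟨κ, a, ha, hspan, hli⟩ := exists_linearIndependent' P.ResidueField v
  have htop : Submodule.span P.ResidueField (Set.range (v ∘ a)) = ⊤ := by
    rw [hspan, eq_top_iff]
    intro x _
    induction x using TensorProduct.induction_on with
    | zero => exact zero_mem _
    | tmul c y =>
      rw [show c ⊗ₜ[R] y = c • v y by simp [v, TensorProduct.smul_tmul']]
      exact Submodule.smul_mem _ _ (Submodule.subset_span ⟨y, rfl⟩)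
    | add x y hx hy => exact add_mem (hx trivial) (hy trivial)
  have hcard : ∀ (σ : Type) [Fintype σ], (σ ↪ κ) → Fintype.card σ ≤ Module.finrank (FractionRing R) (FractionRing R ⊗[R] B) := by
    intro σ _ f
    by_contra hlt
    have hnot : ¬ LinearIndependent (FractionRing R) fun i => (1 : FractionRing R) ⊗ₜ[R] (a (f i)) := fun hl =>
      hlt hl.fintype_card_le_finrank
    obtain ⟨e, he, j, hj⟩ := exists_unit_relation (fun i => a (f i)) hnot
    have h1 := Fintype.linearIndependent_iff.1 (hli.comp f f.injective) (fun i => algebraMap R P.ResidueField (e i)) (by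
      simp only [Function.comp_apply, algebraMap_smul]
      have := congrArg v he
      simpa [v, TensorProduct.tmul_sum, TensorProduct.tmul_smul] using this) j
    exact (hj.map (algebraMap R P.ResidueField)).ne_zero h1
  haveI : Finite κ := by
    by_contra hinf
    rw [not_finite_iff_infinite] at hinf
    have := hcard (Fin (Module.finrank (FractionRing R) (FractionRing R ⊗[R] B) + 1))
      (Fin.valEmbedding.trans (Infinite.natEmbedding κ))
    simp at this
  exact Module.Finite.of_fg_top (htop ▸ Submodule.fg_span (Set.finite_range _))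

theorem locallyQuasiFinite_of_valuation {Y : Scheme.{u}} (f : Y ⟶ Spec (CommRingCat.of R)) [Flat f]
    [IsFinite (pullback.snd f (Spec.map (CommRingCat.ofHom (algebraMap R (FractionRing R)))))] :
    LocallyQuasiFinite f := by
  haveI hsrc : IsZariskiLocalAtSource @LocallyQuasiFinite.{u} := @HasRingHomProperty.instIsZariskiLocalAtSource _ _
    (inferInstance : HasRingHomProperty @LocallyQuasiFinite.{u} RingHom.QuasiFinite)
  rw [IsZariskiLocalAtSource.iff_of_openCover (P := @LocallyQuasiFinite) Y.affineCover]
  intro i
  let ψ : R →+* (Y.affineCover.X i).presheaf.obj (op ⊤) := (Spec.preimage ((Y.affineCover.X i).isoSpec.inv ≫ Y.affineCover.f i ≫ f)).hom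
  letI := ψ.toAlgebra
  let j := Spec.map (CommRingCat.ofHom (algebraMap R (FractionRing R)))
  let φ := (Y.affineCover.X i).isoSpec.inv ≫ Y.affineCover.f i
  have hφ : Spec.map (CommRingCat.ofHom (algebraMap R Γ(Y.affineCover.X i, ⊤))) = φ ≫ f :=
    (Spec.map_preimage _).trans (Category.assoc _ _ _).symm
  haveI : Module.Flat R Γ(Y.affineCover.X i, ⊤) := by
    have h1 : Flat (Spec.map (CommRingCat.ofHom (algebraMap R Γ(Y.affineCover.X i, ⊤)))) := hφ ▸ inferInstance
    exact (HasRingHomProperty.Spec_iff (P := @Flat)).1 h1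
  haveI : Module.Finite (FractionRing R) (FractionRing R ⊗[R] Γ(Y.affineCover.X i, ⊤)) := by
    let p := pullback.map j (φ ≫ f) j f (𝟙 _) φ (𝟙 _) (by simp) (by simp)
    haveI : IsFinite (pullback.fst j f) := by
      rw [← pullbackSymmetry_hom_comp_snd]
      infer_instance
    haveI : IsOpenImmersion p := inferInstance
    have h2 : LocallyQuasiFinite (pullback.fst j (φ ≫ f)) := by
      rw [show pullback.fst j (φ ≫ f) = p ≫ pullback.fst j f by simp [p, pullback.map, pullback.lift_fst]]
      infer_instance
    rw [← hφ] at h2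
    have h3 : LocallyQuasiFinite (Spec.map (CommRingCat.ofHom
        (algebraMap (FractionRing R) (FractionRing R ⊗[R] Γ(Y.affineCover.X i, ⊤))))) := by
      rw [show CommRingCat.ofHom (algebraMap (FractionRing R) (FractionRing R ⊗[R] Γ(Y.affineCover.X i, ⊤))) =
        CommRingCat.ofHom Algebra.TensorProduct.includeLeftRingHom from rfl, ← pullbackSpecIso_inv_fst]
      infer_instance
    haveI := RingHom.quasiFinite_algebraMap.1 ((HasRingHomProperty.Spec_iff (P := @LocallyQuasiFinite)).1 h3)
    exact Module.Finite.of_quasiFinite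
  have h4 : LocallyQuasiFinite (Spec.map (CommRingCat.ofHom (algebraMap R Γ(Y.affineCover.X i, ⊤)))) :=
    (HasRingHomProperty.Spec_iff (P := @LocallyQuasiFinite)).2 (RingHom.quasiFinite_algebraMap.2 quasiFinite_of_valuation)
  rw [hφ, Category.assoc] at h4
  rw [← Iso.hom_inv_id_assoc (Y.affineCover.X i).isoSpec (Y.affineCover.f i ≫ f)]
  infer_instance

theorem isFinite_of_valuation {Y : Scheme.{u}} (f : Y ⟶ Spec (CommRingCat.of R)) [Flat f] [IsProper f]
    [IsFinite (pullback.snd f (Spec.map (CommRingCat.ofHom (algebraMap R (FractionRing R)))))] : IsFinite f :=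
  haveI := locallyQuasiFinite_of_valuation f
  IsFinite.of_isProper_of_locallyQuasiFinite f

end Groth.L13.MP
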